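import Mathlib

/-!
Elementary facts for the theorem of Shult and Gross: automorphisms without fixed points, orbits,
pairings and arithmetic.
-/

set_option autoImplicit false
set_option linter.unusedSectionVars false

open scoped Pointwise

namespace CfsgLib.ShultGross

section Fpf

variable {G : Type*} [Group G] [Finite G]

theorem surj_of_fpf (σ : MulAut G) (h : ∀ g, σ g = g → g = 1) :
    Function.Surjective fun g : G => g⁻¹ * σ g := by
  refine Finite.surjective_of_injective fun a b hab => ?_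
  have h' : a⁻¹ * σ a = b⁻¹ * σ b := hab
  have : σ (b * a⁻¹) = b * a⁻¹ := by
    rw [map_mul, map_inv, show σ b = b * (a⁻¹ * σ a) by rw [h', mul_inv_cancel_left]]
    group
  exact (mul_inv_eq_one.mp (h _ this)).symm

theorem fpf_of_displacement_surj (σ : MulAut G) (h : Function.Surjective fun g : G => g⁻¹ * σ g) :
    ∀ g, σ g = g → g = 1 := fun g hg => Finite.injective_iff_surjective.mpr h (by simp [hg])

theorem fpf_of_surjective {H : Type*} [Group H] [Finite H] (σ : MulAut G) (h : ∀ g, σ g = g → g = 1)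
    (f : G →* H) (hf : Function.Surjective f) (τ : MulAut H) (hc : ∀ g, f (σ g) = τ (f g)) :
    ∀ x, τ x = x → x = 1 := fpf_of_displacement_surj τ fun y => by
  obtain ⟨g, rfl⟩ := hf y
  obtain ⟨w, rfl⟩ := surj_of_fpf σ h g
  exact ⟨f w, by simp only [map_mul, map_inv, hc]⟩

theorem exists_invariant_sylow (σ : MulAut G) (h : ∀ g, σ g = g → g = 1) (r : ℕ) [Fact r.Prime] :
    ∃ Q : Sylow r G, ∀ x ∈ (Q : Subgroup G), σ x ∈ (Q : Subgroup G) := by
  obtain ⟨P⟩ : Nonempty (Sylow r G) := inferInstance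
  obtain ⟨c, hc⟩ := MulAction.exists_smul_eq G P (σ • P)
  obtain ⟨g, hg⟩ := surj_of_fpf σ h c⁻¹
  have hc' : MulAut.conj c • (P : Subgroup G) = σ • (P : Subgroup G) := by
    rw [← Sylow.coe_subgroup_smul, hc]; rfl
  refine ⟨g • P, fun x hx => ?_⟩
  rw [Sylow.coe_subgroup_smul, Subgroup.mem_pointwise_smul_iff_inv_smul_mem] at hx ⊢
  have h2 : σ (g⁻¹ * x * g) ∈ MulAut.conj c • (P : Subgroup G) := by
    rw [hc']
    exact Subgroup.smul_mem_pointwise_smul _ σ _ (by simpa using hx)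
  rw [Subgroup.mem_pointwise_smul_iff_inv_smul_mem] at h2
  have hg' : g⁻¹ * σ g = c⁻¹ := hg
  have e : c⁻¹ * σ (g⁻¹ * x * g) * c = g⁻¹ * σ x * g := by
    rw [← hg', show c = (g⁻¹ * σ g)⁻¹ by rw [hg', inv_inv], map_mul, map_mul, map_inv]
    group
  have h3 : c⁻¹ * σ (g⁻¹ * x * g) * c ∈ (P : Subgroup G) := by
    rw [← map_inv, MulAut.smul_def, MulAut.conj_apply, inv_inv] at h2
    exact h2
  rw [e] at h3
  simpa [MulAut.conj_symm_apply] using h3

theorem not_dvd_card {p n : ℕ} [hp : Fact p.Prime] (σ : MulAut G) (hσ : σ ^ p ^ n = 1)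
    (h : ∀ g, σ g = g → g = 1) : ¬ p ∣ Nat.card G := by
  intro hd
  have hpg : IsPGroup p (Subgroup.zpowers σ) := by
    intro g
    obtain ⟨k, hk⟩ := Subgroup.mem_zpowers_iff.mp g.2
    refine ⟨n, Subtype.ext ?_⟩
    rw [SubmonoidClass.coe_pow, ← hk, ← zpow_natCast, ← zpow_mul, mul_comm, zpow_mul, zpow_natCast, hσ, one_zpow]
    rfl
  have h1 : MulAction.fixedPoints (Subgroup.zpowers σ) G = {1} := by
    ext g
    simp only [MulAction.mem_fixedPoints, Set.mem_singleton_iff]
    refine ⟨fun hg => h g (hg ⟨σ, Subgroup.mem_zpowers σ⟩), fun hg m => ?_⟩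
    subst hg
    exact map_one (m : MulAut G)
  have h2 := hpg.card_modEq_card_fixedPoints G
  rw [h1] at h2
  have h3 : Nat.card G % p = 1 % p := by simpa [Nat.ModEq] using h2
  rw [Nat.dvd_iff_mod_eq_zero.mp hd, Nat.one_mod_eq_one.mpr hp.out.ne_one] at h3
  exact zero_ne_one h3

/-- The restriction of an automorphism to an invariant subgroup. -/
noncomputable def restrictAut (σ : MulAut G) (S : Subgroup G) (h : ∀ x ∈ S, σ x ∈ S) : MulAut S :=
  MulEquiv.ofBijective ((σ.toMonoidHom.comp S.subtype).codRestrict S fun x => h x x.2)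
    (Finite.injective_iff_bijective.mp fun a b hab => Subtype.ext (σ.injective (congrArg Subtype.val hab)))

@[simp] theorem restrictAut_apply (σ : MulAut G) (S : Subgroup G) (h : ∀ x ∈ S, σ x ∈ S) (x : S) :
    ((restrictAut σ S h x : S) : G) = σ x := rfl

theorem restrictAut_pow (σ : MulAut G) (S : Subgroup G) (h : ∀ x ∈ S, σ x ∈ S) (k : ℕ) (x : S) :
    (((restrictAut σ S h ^ k) x : S) : G) = (σ ^ k) x := by
  induction k with
  | zero => rfl
  | succ k ih => rw [pow_succ', pow_succ', MulAut.mul_apply, MulAut.mul_apply, restrictAut_apply, ih]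

theorem restrictAut_pow_eq_one (σ : MulAut G) (S : Subgroup G) (h : ∀ x ∈ S, σ x ∈ S) {k : ℕ} (hk : σ ^ k = 1) :
    restrictAut σ S h ^ k = 1 :=
  MulEquiv.ext fun x => Subtype.ext (by rw [restrictAut_pow, hk]; rfl)

theorem restrictAut_fpf (σ : MulAut G) (S : Subgroup G) (h : ∀ x ∈ S, σ x ∈ S) (hf : ∀ g, σ g = g → g = 1)
    (x : S) (hx : restrictAut σ S h x = x) : x = 1 :=
  Subtype.ext (hf x (congrArg Subtype.val hx))

theorem map_eq_of_invariant (σ : MulAut G) (N : Subgroup G) (h : ∀ x ∈ N, σ x ∈ N) :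
    N.map σ.toMonoidHom = N :=
  Subgroup.eq_of_le_of_card_ge (Subgroup.map_le_iff_le_comap.mpr h)
    (Subgroup.card_map_of_injective (f := σ.toMonoidHom) σ.injective).ge

/-- The automorphism induced on a quotient. -/
noncomputable def quotAut (σ : MulAut G) (N : Subgroup G) [N.Normal] (h : ∀ x ∈ N, σ x ∈ N) : MulAut (G ⧸ N) :=
  QuotientGroup.congr N N σ (map_eq_of_invariant σ N h)

@[simp] theorem quotAut_mk (σ : MulAut G) (N : Subgroup G) [N.Normal] (h : ∀ x ∈ N, σ x ∈ N) (g : G) :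
    quotAut σ N h (g : G ⧸ N) = ((σ g : G) : G ⧸ N) := rfl

theorem quotAut_pow (σ : MulAut G) (N : Subgroup G) [N.Normal] (h : ∀ x ∈ N, σ x ∈ N) (k : ℕ) (g : G) :
    (quotAut σ N h ^ k) (g : G ⧸ N) = (((σ ^ k) g : G) : G ⧸ N) := by
  induction k with
  | zero => rfl
  | succ k ih => rw [pow_succ', pow_succ', MulAut.mul_apply, MulAut.mul_apply, ih, quotAut_mk]

theorem quotAut_pow_eq_one (σ : MulAut G) (N : Subgroup G) [N.Normal] (h : ∀ x ∈ N, σ x ∈ N) {k : ℕ}
    (hk : σ ^ k = 1) : quotAut σ N h ^ k = 1 :=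
  MulEquiv.ext fun x => by
    obtain ⟨g, rfl⟩ := QuotientGroup.mk_surjective x
    rw [quotAut_pow, hk]; rfl

theorem quotAut_fpf (σ : MulAut G) (N : Subgroup G) [N.Normal] (h : ∀ x ∈ N, σ x ∈ N)
    (hf : ∀ g, σ g = g → g = 1) : ∀ x, quotAut σ N h x = x → x = 1 :=
  fpf_of_surjective σ hf (QuotientGroup.mk' N) (QuotientGroup.mk'_surjective N) _ fun _ => rfl

theorem invariant_of_characteristic (σ : MulAut G) (C : Subgroup G) [hC : C.Characteristic] :
    ∀ x ∈ C, σ x ∈ C := fun x hx => by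
  have h := hC.fixed σ
  rw [← h] at hx
  exact hx

theorem pow_apply_of_fixed (θ : MulAut G) {u z : G} (hu : θ u = z * u) (hz : θ z = z) (k : ℕ) :
    (θ ^ k) u = z ^ k * u := by
  induction k with
  | zero => simp
  | succ k ih => rw [pow_succ', MulAut.mul_apply, ih, map_mul, map_pow, hz, hu, pow_succ, mul_assoc]

theorem pow_apply_fixed (θ : MulAut G) {u : G} (hu : θ u = u) (k : ℕ) : (θ ^ k) u = u := by
  have h := pow_apply_of_fixed θ (z := 1) (by rw [one_mul]; exact hu) (map_one θ) k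
  rwa [one_pow, one_mul] at h

end Fpf

section Orbits

/-- Representatives of the orbits of a semiregular automorphism of `p`-power order. -/
theorem exists_reps {A : Type*} [Group A] [Finite A] (γ : MulAut A) {p e : ℕ} (hp : p.Prime)
    (hγ : γ ^ p ^ (e + 1) = 1) (hfpf : ∀ a, (γ ^ p ^ e) a = a → a = 1) :
    ∃ Rep : Finset A, p ^ (e + 1) * Rep.card + 1 = Nat.card A + p ^ (e + 1) ∧ ∀ a, ∃ k, (γ ^ k) a ∈ Rep := by
  classical
  have := Fintype.ofFinite A
  let H := Subgroup.zpowers γ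
  have hsmul : ∀ (a : A), (fun x => γ • x) a = γ a := fun a => rfl
  have hper : ∀ a : A, a ≠ 1 → Function.minimalPeriod (γ • ·) a = p ^ (e + 1) := by
    intro a ha
    have h1 : Function.minimalPeriod (γ • ·) a ∣ p ^ (e + 1) :=
      MulAction.pow_smul_eq_iff_minimalPeriod_dvd.mp (by rw [hγ, one_smul])
    obtain ⟨i, hi, hie⟩ := (Nat.dvd_prime_pow hp).mp h1
    rw [hie]
    by_contra hne
    refine ha (hfpf a ?_)
    show γ ^ p ^ e • a = a
    rw [MulAction.pow_smul_eq_iff_minimalPeriod_dvd, hie]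
    exact pow_dvd_pow p (by
      by_contra hlt
      exact hne (by rw [show i = e + 1 by omega]))
  have hcard : ∀ a : A, a ≠ 1 → Nat.card (MulAction.orbit H a) = p ^ (e + 1) := by
    intro a ha
    rw [Nat.card_congr (MulAction.orbitZPowersEquiv γ a), Nat.card_zmod, hper a ha]
  let Ω := MulAction.orbitRel.Quotient H A
  have : Fintype Ω := Fintype.ofFinite Ω
  have hsum : Nat.card A = ∑ ω : Ω, Nat.card (MulAction.orbit H ω.out) := by
    rw [← Nat.card_sigma]
    exact Nat.card_congr (MulAction.selfEquivSigmaOrbits H A)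
  have hmem : ∀ a : A, ∃ h : H, h • a = (Quotient.mk'' a : Ω).out := fun a => by
    have := Quotient.mk_out' (s₁ := MulAction.orbitRel H A) a
    exact this
  have hone : ∀ ω : Ω, ω.out = 1 ↔ ω = Quotient.mk'' 1 := by
    intro ω
    constructor
    · intro h
      rw [← h, Quotient.out_eq']
    · rintro rfl
      obtain ⟨h, hh⟩ := hmem 1
      rw [← hh]
      exact map_one (h : MulAut A)
  have horb1 : Nat.card (MulAction.orbit H (1 : A)) = 1 := by
    have : MulAction.orbit H (1 : A) = {1} := by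
      ext x
      simp only [MulAction.mem_orbit_iff, Set.mem_singleton_iff]
      refine ⟨fun ⟨h, hh⟩ => ?_, fun hx => ⟨1, by rw [hx, one_smul]⟩⟩
      rw [← hh]
      exact map_one (h : MulAut A)
    rw [this]
    simp
  refine ⟨Finset.univ.image fun ω : Ω => ω.out, ?_, fun a => ?_⟩
  · rw [Finset.card_image_of_injective _ Quotient.out_injective, hsum,
      ← Finset.sum_erase_add _ _ (Finset.mem_univ (Quotient.mk'' 1 : Ω)), (hone _).mpr rfl, horb1,
      Finset.sum_congr rfl fun ω hω => hcard _ fun h => (Finset.mem_erase.mp hω).1 ((hone ω).mp h),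
      Finset.sum_const, Finset.card_erase_of_mem (Finset.mem_univ _), smul_eq_mul]
    have : 1 ≤ (Finset.univ : Finset Ω).card := Finset.card_pos.mpr ⟨Quotient.mk'' 1, Finset.mem_univ _⟩
    obtain ⟨c, hc⟩ := Nat.exists_eq_add_of_le this
    rw [hc, Nat.add_sub_cancel_left]
    ring
  · obtain ⟨⟨g, hg⟩, hh⟩ := hmem a
    obtain ⟨z, rfl⟩ := Subgroup.mem_zpowers_iff.mp hg
    refine ⟨(z % (p ^ (e + 1) : ℕ)).toNat, Finset.mem_image.mpr ⟨Quotient.mk'' a, Finset.mem_univ _, ?_⟩⟩
    rw [← hh]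
    show (γ ^ z) a = _
    congr 1
    rw [← zpow_natCast, Int.toNat_of_nonneg (Int.emod_nonneg _ (by exact_mod_cast (pow_pos hp.pos _).ne'))]
    conv_lhs => rw [← Int.emod_add_mul_ediv z (p ^ (e + 1) : ℕ), zpow_add, zpow_mul, zpow_natCast, hγ, one_zpow, mul_one]

end Orbits

section Pairing

variable {K : Type*} [Field K]

theorem enoughRoots [IsAlgClosed K] (A : Type*) [Group A] [Finite A] (h : (Nat.card A : K) ≠ 0) :
    HasEnoughRootsOfUnity K (Monoid.exponent A) := by
  haveI : NeZero ((Monoid.exponent A : ℕ) : K) := ⟨fun h0 => h (by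
    obtain ⟨c, hc⟩ := Group.exponent_dvd_nat_card (G := A)
    rw [hc, Nat.cast_mul, h0, zero_mul])⟩
  infer_instance

theorem finite_dual (A : Type*) [CommGroup A] [Finite A] [HasEnoughRootsOfUnity K (Monoid.exponent A)] :
    Finite (A →* Kˣ) :=
  Nat.finite_of_card_ne_zero (by
    rw [CommGroup.card_monoidHom_of_hasEnoughRootsOfUnity]; exact Nat.card_pos.ne')

theorem pairing_bijective {B : Type*} [CommGroup B] [Finite B] [HasEnoughRootsOfUnity K (Monoid.exponent B)]
    (b : B →* (B →* Kˣ)) (hb : Function.Injective b) : Function.Bijective b :=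
  hb.bijective_of_nat_card_le (by rw [CommGroup.card_monoidHom_of_hasEnoughRootsOfUnity])

/-- The orthogonal of a subgroup. -/
def perp {B : Type*} [CommGroup B] (b : B →* (B →* Kˣ)) (L : Subgroup B) : Subgroup B :=
  ((MonoidHom.domRestrictHom L Kˣ).comp b).ker

theorem mem_perp {B : Type*} [CommGroup B] {b : B →* (B →* Kˣ)} {L : Subgroup B} {x : B} :
    x ∈ perp b L ↔ ∀ y ∈ L, b x y = 1 := by
  rw [perp, MonoidHom.mem_ker]
  exact ⟨fun h y hy => DFunLike.congr_fun h ⟨y, hy⟩, fun h => MonoidHom.ext fun y => h y y.2⟩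

theorem card_perp_mul {B : Type*} [CommGroup B] [Finite B] [HasEnoughRootsOfUnity K (Monoid.exponent B)]
    (b : B →* (B →* Kˣ)) (hb : Function.Injective b) (L : Subgroup B) :
    Nat.card (perp b L) * Nat.card L = Nat.card B := by
  haveI : HasEnoughRootsOfUnity K (Monoid.exponent L) :=
    HasEnoughRootsOfUnity.of_dvd K (Monoid.exponent_submonoid_dvd L.toSubmonoid)
  have hs : Function.Surjective ((MonoidHom.domRestrictHom L Kˣ).comp b) :=
    (MonoidHom.domRestrict_surjective K L).comp (pairing_bijective b hb).2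
  rw [← Subgroup.card_mul_index (perp b L)]
  congr 1
  rw [Subgroup.index_eq_card, perp, Nat.card_congr (QuotientGroup.quotientKerEquivOfSurjective _ hs).toEquiv,
    CommGroup.card_monoidHom_of_hasEnoughRootsOfUnity]

theorem card_isotropic {B : Type*} [CommGroup B] [Finite B] [HasEnoughRootsOfUnity K (Monoid.exponent B)]
    (b : B →* (B →* Kˣ)) (hb : Function.Injective b) (L : Subgroup B) (hL : ∀ x ∈ L, ∀ y ∈ L, b x y = 1) :
    Nat.card L ^ 2 ≤ Nat.card B := by
  rw [← card_perp_mul b hb L, sq]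
  exact Nat.mul_le_mul_right _ (Subgroup.card_le_of_le fun x hx => mem_perp.mpr (hL x hx))

/-- The order of a group with a nondegenerate alternating pairing is a square. -/
theorem exists_sq {B : Type*} [CommGroup B] [Finite B] [HasEnoughRootsOfUnity K (Monoid.exponent B)]
    (b : B →* (B →* Kˣ)) (hb : Function.Injective b) (halt : ∀ x, b x x = 1) :
    ∃ L : Subgroup B, Nat.card B = Nat.card L ^ 2 := by
  have hanti : ∀ x y, b y x = (b x y)⁻¹ := by
    intro x y
    have h := halt (x * y)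
    simp only [map_mul, MonoidHom.mul_apply, halt, one_mul, mul_one] at h
    exact eq_inv_of_mul_eq_one_left (by rw [mul_comm]; first | exact h | exact (mul_comm _ _).trans h)
  obtain ⟨L, hL, hmax⟩ := (Set.toFinite {L : Subgroup B | ∀ x ∈ L, ∀ y ∈ L, b x y = 1}).exists_maximal
    ⟨⊥, fun x hx y _ => by rw [Subgroup.mem_bot.mp hx, map_one]; rfl⟩
  refine ⟨L, ?_⟩
  rw [← card_perp_mul b hb L, sq]
  suffices h : perp b L = L by rw [h]
  refine le_antisymm (fun z hz => ?_) fun x hx => mem_perp.mpr (hL x hx)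
  have hz' := mem_perp.mp hz
  refine hmax (y := L ⊔ Subgroup.zpowers z) ?_ le_sup_left (Subgroup.mem_sup_right (Subgroup.mem_zpowers z))
  intro x hx y hy
  obtain ⟨x1, hx1, x2, hx2, rfl⟩ := Subgroup.mem_sup.mp hx
  obtain ⟨y1, hy1, y2, hy2, rfl⟩ := Subgroup.mem_sup.mp hy
  obtain ⟨i, rfl⟩ := Subgroup.mem_zpowers_iff.mp hx2
  obtain ⟨k, rfl⟩ := Subgroup.mem_zpowers_iff.mp hy2
  simp only [map_mul, map_zpow, MonoidHom.mul_apply, MonoidHom.zpow_apply, hL x1 hx1 y1 hy1, hz' y1 hy1,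
    hanti z x1, hz' x1 hx1, halt, inv_one, one_zpow, mul_one]

end Pairing

section Arith

theorem arith {p q d e j m : ℕ} (hp : p.Prime) (hp2 : p ≠ 2) (hq : 2 ≤ q) (hm : 1 ≤ m)
    (ha : 1 < q ^ d) (hdiv : p ^ m ∣ (q ^ d) ^ 2 - 1) (hle : (q ^ d) ^ 2 ≤ (p ^ m - 1) ^ 2)
    (he : 0 < e) (hed : e ≤ d * p ^ j) (hX : p ^ (m + j) ∣ q ^ e - 1) : False := by
  haveI := Fact.mk hp
  have hP : p ∣ p ^ m := dvd_pow_self p (by omega)
  have hle' : q ^ d ≤ p ^ m - 1 := (Nat.pow_le_pow_iff_left two_ne_zero).mp hle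
  have hd1 : d ≠ 0 := fun h => by rw [h, pow_zero] at ha; omega
  -- `q ^ d + 1 = p ^ m`
  have hfac : (q ^ d) ^ 2 - 1 = (q ^ d + 1) * (q ^ d - 1) := by rw [← Nat.sq_sub_sq, one_pow]
  rw [hfac] at hdiv
  have hodd : ¬ p ∣ q ^ d - 1 ∨ ¬ p ∣ q ^ d + 1 := by
    by_contra h
    push Not at h
    have h1 := Nat.dvd_sub h.2 h.1
    rw [show q ^ d + 1 - (q ^ d - 1) = 2 by omega] at h1
    exact hp2 ((Nat.prime_dvd_prime_iff_eq hp Nat.prime_two).mp h1)
  have hpm : q ^ d + 1 = p ^ m := by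
    rcases hodd with h | h
    · have h1 := ((hp.coprime_iff_not_dvd.mpr h).pow_left m).dvd_of_dvd_mul_right hdiv
      exact le_antisymm (by omega) (Nat.le_of_dvd (by omega) h1)
    · have h1 := ((hp.coprime_iff_not_dvd.mpr h).pow_left m).dvd_of_dvd_mul_left hdiv
      exact absurd (Nat.le_of_dvd (by omega) h1) (by omega)
  have hqp : ¬ p ∣ q := fun h => by
    have h1 : p ∣ q ^ d := h.trans (dvd_pow_self q hd1)
    rw [← hpm, Nat.dvd_add_right h1] at hP
    exact hp.ne_one (Nat.dvd_one.mp hP)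
  -- the period of `q` modulo `p ^ m`
  have hd : ((q : ZMod (p ^ m))) ^ d = -1 := by
    rw [← add_eq_zero_iff_eq_neg, ← Nat.cast_pow, ← Nat.cast_one, ← Nat.cast_add, hpm, ZMod.natCast_self]
  have hcast : ∀ k, ((q : ZMod (p ^ m))) ^ k = 1 ↔ p ^ m ∣ q ^ k - 1 := fun k => by
    rw [← ZMod.natCast_eq_zero_iff, Nat.cast_sub (Nat.one_le_pow _ _ (by omega)), sub_eq_zero]
    simp
  have he' : ((q : ZMod (p ^ m))) ^ e = 1 := (hcast e).mpr ((pow_dvd_pow p (Nat.le_add_right m j)).trans hX)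
  have hr : ((q : ZMod (p ^ m))) ^ (e % (2 * d)) = 1 := by
    conv_lhs => rw [← one_mul ((q : ZMod (p ^ m)) ^ (e % (2 * d))), ← one_pow (e / (2 * d)),
      show (1 : ZMod (p ^ m)) = ((q : ZMod (p ^ m))) ^ (2 * d) by rw [mul_comm, pow_mul, hd, neg_one_sq],
      ← pow_mul, ← pow_add, Nat.div_add_mod]
    exact he'
  have hr0 : e % (2 * d) = 0 := by
    set r := e % (2 * d) with hr'
    have hr2 : r < 2 * d := Nat.mod_lt _ (by omega)
    by_contra hne
    rcases lt_or_ge r d with hlt | hge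
    · have h1 := Nat.le_of_dvd (by
        have : 1 < q ^ r := Nat.one_lt_pow hne (by omega)
        omega) ((hcast r).mp hr)
      have h2 : q ^ r < q ^ d := Nat.pow_lt_pow_right (by omega) hlt
      omega
    · obtain ⟨c, hc⟩ := Nat.exists_eq_add_of_le hge
      rw [hc, pow_add, hd, neg_one_mul, neg_eq_iff_eq_neg, ← add_eq_zero_iff_eq_neg, ← Nat.cast_pow, ← Nat.cast_one,
        ← Nat.cast_add, ZMod.natCast_eq_zero_iff] at hr
      have h1 := Nat.le_of_dvd (by omega) hr
      have h2 : q ^ c < q ^ d := Nat.pow_lt_pow_right (by omega) (by omega)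
      omega
  obtain ⟨t, rfl⟩ := Nat.dvd_of_mod_eq_zero hr0
  have ht : t ≠ 0 := fun h => by rw [h, mul_zero] at he; omega
  -- lifting the exponent
  have hd2 : p ∣ (q ^ d) ^ 2 - 1 := by rw [hfac, hpm]; exact hP.mul_right _
  have hone : 1 < (q ^ d) ^ 2 := Nat.one_lt_pow two_ne_zero ha
  have hx : ¬ p ∣ (q ^ d) ^ 2 := fun h => hqp (hp.dvd_of_dvd_pow (hp.dvd_of_dvd_pow h))
  have hlte := padicValNat.pow_sub_pow (p := p) (hp.odd_of_ne_two hp2) hone hd2 hx ht
  rw [one_pow, hfac, hpm, padicValNat.mul (pow_pos hp.pos m).ne' (by omega), padicValNat.prime_pow,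
    padicValNat.eq_zero_of_not_dvd (n := q ^ d - 1) (by
      rcases hodd with h | h
      · exact h
      · exact absurd (hpm ▸ hP) h), add_zero] at hlte
  have hne : ((q ^ d) ^ 2) ^ t - 1 ≠ 0 := by
    have := Nat.one_lt_pow ht hone
    omega
  have hval : m + j ≤ padicValNat p (((q ^ d) ^ 2) ^ t - 1) :=
    (padicValNat_dvd_iff_le hne).mp (by rwa [← pow_mul, ← pow_mul, show d * (2 * t) = 2 * d * t by ring])
  have hj : p ^ j ≤ t := (Nat.le_of_dvd (Nat.pos_of_ne_zero ht) ((padicValNat_dvd_iff_le ht).mpr (by omega)))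
  have h1 : 2 * d * p ^ j ≤ 2 * d * t := Nat.mul_le_mul_left _ hj
  have h2 : 0 < d * p ^ j := Nat.mul_pos (by omega) (pow_pos hp.pos j)
  nlinarith

end Arith

end CfsgLib.ShultGross
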