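import Mathlib
import Cfsg.Agent.Lib.ShultGross.Basic
import Cfsg.Agent.Lib.FittingHeight.Grading

/-!
Weight spaces permuted by an operator without fixed vectors, and two bounds on centralisers of operators.
-/

set_option autoImplicit false
set_option linter.unusedSectionVars false

namespace CfsgLib.ShultGross

open CfsgLib.FittingHeight.Grading

variable {K : Type*} [Field K] {W : Type*} [AddCommGroup W] [Module K W]
variable {X : Type*} [CommGroup X]

/-- The restriction of a representation to an invariant subspace. -/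
def restrictRep {M : Type*} [Monoid M] (φ : M →* Module.End K W) (U : Submodule K W)
    (h : ∀ x, ∀ w ∈ U, φ x w ∈ U) : M →* Module.End K U where
  toFun x := (φ x).restrict (h x)
  map_one' := LinearMap.ext fun u => Subtype.ext (by simp)
  map_mul' x y := LinearMap.ext fun u => Subtype.ext (by simp)

@[simp] theorem restrictRep_apply {M : Type*} [Monoid M] (φ : M →* Module.End K W) (U : Submodule K W)
    (h : ∀ x, ∀ w ∈ U, φ x w ∈ U) (x : M) (u : U) : ((restrictRep φ U h x u : U) : W) = φ x u := rfl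

theorem restrict_pow (T : Module.End K W) (U : Submodule K W) (h : ∀ w ∈ U, T w ∈ U) (k : ℕ) (u : U) :
    ((((T.restrict h : Module.End K U) ^ k) u : U) : W) = (T ^ k) u := by
  induction k with
  | zero => rfl
  | succ k ih => rw [pow_succ', pow_succ', Module.End.mul_apply, Module.End.mul_apply, LinearMap.restrict_coe_apply, ih]

theorem compat_pow {M : Type*} [Group M] (φ : M →* Module.End K W) (γ : MulAut M) (T : Module.End K W)
    (hc : ∀ x w, T (φ x w) = φ (γ x) (T w)) (k : ℕ) (x : M) (w : W) :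
    (T ^ k) (φ x w) = φ ((γ ^ k) x) ((T ^ k) w) := by
  induction k with
  | zero => rfl
  | succ k ih => rw [pow_succ', pow_succ', Module.End.mul_apply, MulAut.mul_apply, ih, hc]; rfl

theorem weight_move (φ : X →* Module.End K W) (γ : MulAut X) (T : Module.End K W)
    (hc : ∀ x w, T (φ x w) = φ (γ x) (T w)) {χ : X →* Kˣ} {v : W} (hv : v ∈ weight φ χ) (k : ℕ) :
    (T ^ k) v ∈ weight φ (χ.comp (γ ^ k).symm.toMonoidHom) := fun x => by
  conv_lhs => rw [← (γ ^ k).apply_symm_apply x]
  rw [← compat_pow φ γ T hc, hv, map_smul]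
  rfl

theorem weight_unique {φ : X →* Module.End K W} {χ ψ : X →* Kˣ} {v : W} (h : v ∈ weight φ χ)
    (h' : v ∈ weight φ ψ) (hv : v ≠ 0) : χ = ψ :=
  MonoidHom.ext fun x => Units.ext (smul_left_injective K hv ((h x).symm.trans (h' x)))

/-- The period of a weight under an operator of `p`-power order without fixed vectors. -/
theorem exists_period [Fintype X] (hX : ((Fintype.card X : ℕ) : K) ≠ 0) {p e : ℕ} (hp : p.Prime)
    (φ : X →* Module.End K W) (γ : MulAut X) (T : Module.End K W) (hc : ∀ x w, T (φ x w) = φ (γ x) (T w))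
    (hT : T ^ p ^ e = 1) (hTf : ∀ w, T w = w → w = 0) {χ : X →* Kˣ} {v0 : W} (hv0 : v0 ∈ weight φ χ)
    (h0 : v0 ≠ 0) :
    ∃ i < e, (∀ x, χ ((γ ^ p ^ i) x) = χ x) ∧ ∀ v ∈ weight φ χ, (T ^ p ^ i) v = v → v = 0 := by
  let s : (X →* Kˣ) → (X →* Kˣ) := fun ψ => ψ.comp γ.toMonoidHom
  have hs : ∀ k ψ x, (s^[k] ψ) x = ψ ((γ ^ k) x) := by
    intro k
    induction k with
    | zero => intro ψ x; rfl
    | succ k ih =>
      intro ψ x
      rw [Function.iterate_succ_apply, ih, pow_succ', MulAut.mul_apply]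
      rfl
  have hfix : ∀ k, (T ^ k) v0 = v0 → Function.IsPeriodicPt s k χ := fun k hk => by
    have h1 := weight_move φ γ T hc hv0 k
    rw [hk] at h1
    refine MonoidHom.ext fun x => ?_
    rw [hs]
    conv_lhs => rw [weight_unique hv0 h1 h0]
    simp
  obtain ⟨i, hi, hie⟩ := (Nat.dvd_prime_pow hp).mp
    (Function.IsPeriodicPt.minimalPeriod_dvd (hfix (p ^ e) (by rw [hT]; rfl)))
  have hv : ∀ v ∈ weight φ χ, (T ^ p ^ i) v = v → v = 0 := by
    intro v hv hvfix
    have hu : T (∑ k ∈ Finset.range (p ^ i), (T ^ k) v) = ∑ k ∈ Finset.range (p ^ i), (T ^ k) v := by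
      obtain ⟨c, hc'⟩ : ∃ c, p ^ i = c + 1 := ⟨p ^ i - 1, by have := pow_pos hp.pos i; omega⟩
      rw [hc', map_sum]
      conv_rhs => rw [Finset.sum_range_succ']
      rw [Finset.sum_range_succ]
      congr 1
      · refine Finset.sum_congr rfl fun k _ => ?_
        rw [pow_succ', Module.End.mul_apply]
      · rw [← Module.End.mul_apply, ← pow_succ', ← hc', hvfix, pow_zero]; rfl
    have h1 := congrArg (proj φ χ) (hTf _ hu)
    rw [map_zero, map_sum, Finset.sum_eq_single 0] at h1
    · rw [pow_zero, Module.End.one_apply, proj_eq hX φ hv] at h1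
      exact h1
    · intro k hk hk0
      refine proj_eq_zero hX φ (fun heq => ?_) (weight_move φ γ T hc hv k)
      have hper : Function.IsPeriodicPt s k χ := MonoidHom.ext fun x => by
        rw [hs]
        conv_lhs => rw [heq]
        simp
      have h2 := Nat.le_of_dvd (Nat.pos_of_ne_zero hk0) hper.minimalPeriod_dvd
      rw [hie] at h2
      exact absurd (Finset.mem_range.mp hk) (not_lt.mpr h2)
    · exact fun h => absurd (Finset.mem_range.mpr (pow_pos hp.pos i)) h
  refine ⟨i, lt_of_le_of_ne hi fun h => h0 (hv v0 hv0 (by rw [h, hT]; rfl)), fun x => ?_, hv⟩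
  have h1 : s^[p ^ i] χ = χ := by rw [← hie]; exact Function.iterate_minimalPeriod
  rw [← hs, h1]

/-- A representation all whose weights are trivial is trivial. -/
theorem eq_one_of_weights [IsAlgClosed K] [Fintype X] (hX : ((Fintype.card X : ℕ) : K) ≠ 0)
    (φ : X →* Module.End K W) (h : ∀ χ : X →* Kˣ, χ ≠ 1 → ∀ v ∈ weight φ χ, v = 0) (x : X) : φ x = 1 := by
  classical
  haveI := enoughRoots (K := K) X (by rw [Nat.card_eq_fintype_card]; exact hX)
  haveI := finite_dual (K := K) X
  let _ := Fintype.ofFinite (X →* Kˣ)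
  refine LinearMap.ext fun w => ?_
  have h1 : proj φ 1 w = w := by
    conv_rhs => rw [← sum_proj hX φ w]
    rw [Finset.sum_eq_single (1 : X →* Kˣ) (fun ψ _ hψ => h ψ hψ _ (proj_mem φ ψ w)) (by simp)]
  have h2 := proj_mem φ 1 w x
  rw [h1] at h2
  simpa using h2

/-- A nonzero space has a nonzero weight space. -/
theorem exists_weight [IsAlgClosed K] [Fintype X] (hX : ((Fintype.card X : ℕ) : K) ≠ 0)
    (φ : X →* Module.End K W) {w : W} (hw : w ≠ 0) : ∃ χ : X →* Kˣ, ∃ v ∈ weight φ χ, v ≠ 0 := by
  by_contra h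
  push Not at h
  haveI := enoughRoots (K := K) X (by rw [Nat.card_eq_fintype_card]; exact hX)
  haveI := finite_dual (K := K) X
  let _ := Fintype.ofFinite (X →* Kˣ)
  refine hw ?_
  rw [← sum_proj hX φ w]
  exact Finset.sum_eq_zero fun ψ _ => h ψ _ (proj_mem φ ψ w)

/-- An operator with `P ^ th` power one and no fixed vector has a large centraliser. -/
theorem comm_lower [IsAlgClosed K] [FiniteDimensional K W] {P : ℕ} (hP : (P : K) ≠ 0) (S : Module.End K W)
    (hS : S ^ P = 1) (hSf : ∀ w, S w = w → w = 0) (Cm : Submodule K (Module.End K W))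
    (hCm : ∀ M : Module.End K W, (∀ w, M (S w) = S (M w)) → M ∈ Cm) :
    Module.finrank K W ^ 2 ≤ (P - 1) * Module.finrank K Cm := by
  classical
  haveI : NeZero P := ⟨fun h => hP (by rw [h, Nat.cast_zero])⟩
  let C := Multiplicative (ZMod P)
  let φ : C →* Module.End K W :=
    { toFun := fun c => S ^ (Multiplicative.toAdd c).val
      map_one' := by simp
      map_mul' := fun a b => by
        rw [toAdd_mul, ZMod.val_add, ← pow_add]
        exact (pow_eq_pow_mod _ hS).symm }
  have hφS : ∀ w, φ (Multiplicative.ofAdd 1) w = S w := fun w => by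
    show (S ^ (1 : ZMod P).val) w = S w
    rw [ZMod.val_one_eq_one_mod, ← pow_eq_pow_mod 1 hS, pow_one]
  have hC : ((Fintype.card C : ℕ) : K) ≠ 0 := by
    rwa [Fintype.card_multiplicative, ZMod.card]
  haveI := enoughRoots (K := K) C (by rw [Nat.card_eq_fintype_card]; exact hC)
  haveI := finite_dual (K := K) C
  let _ := Fintype.ofFinite (C →* Kˣ)
  let c : (C →* Kˣ) → K := fun ψ => (ψ (Multiplicative.ofAdd 1) : K)
  have hw : ∀ ψ, ∀ v ∈ weight φ ψ, S v = c ψ • v := fun ψ v hv => by rw [← hφS]; exact hv _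
  have hproj : ∀ ψ w, proj φ ψ (S w) = c ψ • proj φ ψ w := fun ψ w => by
    rw [← hw ψ _ (proj_mem φ ψ w), ← hφS, ← hφS, proj_apply, proj_apply, map_smul, map_sum]
    congr 1
    refine Finset.sum_congr rfl fun x _ => ?_
    rw [map_smul, ← Module.End.mul_apply, ← map_mul, mul_comm x, map_mul, Module.End.mul_apply]
  let ι : (∀ ψ : C →* Kˣ, Module.End K (weight φ ψ)) →ₗ[K] Cm :=
    LinearMap.codRestrict Cm
      { toFun := fun f => ∑ ψ, (weight φ ψ).subtype.comp ((f ψ).comp ((proj φ ψ).codRestrict (weight φ ψ) (proj_mem φ ψ)))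
        map_add' := fun f g => by
          rw [← Finset.sum_add_distrib]
          refine Finset.sum_congr rfl fun ψ _ => ?_
          rw [Pi.add_apply, LinearMap.add_comp, LinearMap.comp_add]
        map_smul' := fun a f => by
          rw [RingHom.id_apply, Finset.smul_sum]
          refine Finset.sum_congr rfl fun ψ _ => ?_
          rw [Pi.smul_apply, LinearMap.smul_comp, LinearMap.comp_smul] }
      fun f => hCm _ fun w => by
        simp only [LinearMap.coe_mk, AddHom.coe_mk, LinearMap.sum_apply, map_sum, LinearMap.comp_apply,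
          Submodule.coe_subtype]
        refine Finset.sum_congr rfl fun ψ _ => ?_
        rw [show (proj φ ψ).codRestrict (weight φ ψ) (proj_mem φ ψ) (S w) =
          c ψ • (proj φ ψ).codRestrict (weight φ ψ) (proj_mem φ ψ) w from Subtype.ext (hproj ψ w), map_smul,
          Submodule.coe_smul, hw ψ _ (f ψ _).2]
  have hι : Function.Injective ι := by
    intro f g hfg
    refine funext fun ψ => LinearMap.ext fun u => Subtype.ext ?_
    have key : ∀ f, ((ι f : Cm) : Module.End K W) u = (f ψ u : W) := fun f => by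
      simp only [ι, LinearMap.codRestrict_apply, LinearMap.coe_mk, AddHom.coe_mk, LinearMap.sum_apply,
        LinearMap.comp_apply, Submodule.coe_subtype]
      rw [Finset.sum_eq_single ψ (fun ψ' _ hne => by
          rw [show (proj φ ψ').codRestrict (weight φ ψ') (proj_mem φ ψ') (u : W) = 0 from
            Subtype.ext (proj_eq_zero hC φ hne u.2), map_zero, Submodule.coe_zero]) (by simp),
        show (proj φ ψ).codRestrict (weight φ ψ) (proj_mem φ ψ) (u : W) = u from Subtype.ext (proj_eq hC φ u.2)]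
    rw [← key, ← key, hfg]
  have h1 := LinearMap.finrank_le_finrank_of_injective hι
  rw [Module.finrank_pi_fintype] at h1
  simp only [Module.finrank_linearMap, ← sq] at h1
  have h0 : Module.finrank K (weight φ (1 : C →* Kˣ)) = 0 := by
    rw [Submodule.finrank_eq_zero, Submodule.eq_bot_iff]
    intro v hv
    exact hSf v (by rw [← hφS, hv]; simp)
  rw [finrank_eq hC φ, ← Finset.sum_erase_add _ _ (Finset.mem_univ (1 : C →* Kˣ)), h0, add_zero]
  refine sq_sum_le_card_mul_sum_sq.trans ?_
  rw [Finset.card_erase_of_mem (Finset.mem_univ _), Finset.card_univ, ← Nat.card_eq_fintype_card,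
    CommGroup.card_monoidHom_of_hasEnoughRootsOfUnity, Nat.card_eq_fintype_card, Fintype.card_multiplicative,
    ZMod.card]
  exact Nat.mul_le_mul_left _ ((Finset.sum_le_sum_of_subset (Finset.erase_subset _ _)).trans h1)

/-- A bound on the fixed space of an operator permuting weight spaces. -/
theorem fixed_upper [IsAlgClosed K] [FiniteDimensional K W] [Fintype X] (hX : ((Fintype.card X : ℕ) : K) ≠ 0)
    (φ : X →* Module.End K W) (γ : MulAut X) (β : Module.End K W) (hβ : Function.Injective β)
    (hc : ∀ x w, β (φ x w) = φ (γ x) (β w)) (Rep : Finset (X →* Kˣ))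
    (hcov : ∀ χ : X →* Kˣ, ∃ k, χ.comp (γ ^ k).symm.toMonoidHom ∈ Rep) :
    Module.finrank K (LinearMap.eqLocus β LinearMap.id) ≤ ∑ ψ ∈ Rep, Module.finrank K (weight φ ψ) := by
  haveI := enoughRoots (K := K) X (by rw [Nat.card_eq_fintype_card]; exact hX)
  haveI := finite_dual (K := K) X
  let _ := Fintype.ofFinite (X →* Kˣ)
  rw [← Finset.sum_coe_sort Rep, ← Module.finrank_pi_fintype]
  refine LinearMap.finrank_le_finrank_of_injective (f :=
    LinearMap.pi fun χ : Rep => ((proj φ (χ : X →* Kˣ)).codRestrict (weight φ (χ : X →* Kˣ)) (proj_mem φ _)).comp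
      (LinearMap.eqLocus β LinearMap.id).subtype) ?_
  rw [injective_iff_map_eq_zero]
  intro w hw
  have hfix : β (w : W) = w := w.2
  refine Subtype.ext ?_
  show (w : W) = 0
  rw [← sum_proj hX φ (w : W)]
  refine Finset.sum_eq_zero fun χ _ => ?_
  obtain ⟨k, hk⟩ := hcov χ
  have h0 : proj φ (χ.comp (γ ^ k).symm.toMonoidHom) (w : W) = 0 := congrArg Subtype.val (congrFun hw ⟨_, hk⟩)
  have hinj : Function.Injective ⇑(β ^ k) := by
    rw [Module.End.coe_pow]; exact hβ.iterate k
  have hfixk : (β ^ k) (w : W) = w := by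
    rw [Module.End.coe_pow]; exact Function.iterate_fixed hfix k
  refine hinj ?_
  rw [map_zero, ← h0]
  conv_rhs => rw [← hfixk]
  rw [proj_apply, proj_apply, map_smul, map_sum]
  congr 1
  refine Fintype.sum_equiv (γ ^ k).toEquiv _ _ fun x => ?_
  show (β ^ k) _ = ((((χ.comp (γ ^ k).symm.toMonoidHom) ((γ ^ k) x)⁻¹ : Kˣ) : K)) • φ ((γ ^ k) x) ((β ^ k) w)
  rw [map_smul, compat_pow φ γ β hc, ← map_inv (γ ^ k)]
  simp

end CfsgLib.ShultGross
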