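import Mathlib
import Cfsg.Agent.Lib.ShultGross.Linear

/-!
The counting argument: an operator of order `P` without fixed vectors normalising a group which acts with a
nondegenerate commutator pairing on its abelian quotient bounds that quotient by `(P - 1) ^ 2`.
-/

set_option autoImplicit false
set_option linter.unusedSectionVars false

namespace CfsgLib.ShultGross

open CfsgLib.FittingHeight.Grading

variable {K : Type*} [Field K] [IsAlgClosed K] {W : Type*} [AddCommGroup W] [Module K W] [FiniteDimensional K W]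
variable {Q : Type*} [Group Q] {A : Type*} [CommGroup A] [Fintype A]

theorem counting_reps (π : Q →* A) (hπ : Function.Surjective π) (ρ : Q →* Module.End K W) [Nontrivial W]
    (b : A →* (A →* Kˣ)) (hb : Function.Injective b) (hA : ((Fintype.card A : ℕ) : K) ≠ 0)
    (hscal : ∀ x ∈ π.ker, ∃ c : K, ∀ w, ρ x w = c • w)
    (hcomm : ∀ x y w, ρ x (ρ y w) = (b (π y) (π x) : K) • ρ y (ρ x w))
    {p e : ℕ} (hp : p.Prime) (hpK : (p : K) ≠ 0) (θ : MulAut Q) (S : Module.End K W) (hS : S ^ p ^ (e + 1) = 1)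
    (hSf : ∀ w, S w = w → w = 0) (hc : ∀ x w, S (ρ x w) = ρ (θ x) (S w)) (τ : MulAut A)
    (hτc : ∀ x, π (θ x) = τ (π x)) (hτ : τ ^ p ^ (e + 1) = 1)
    (hbinv : ∀ a a', b (τ a) (τ a') = b a a') (Rep : Finset A) (hcov : ∀ a, ∃ k, (τ ^ k) a ∈ Rep) : Nat.card A ≤ (p ^ (e + 1) - 1) * Rep.card := by
  classical
  haveI := enoughRoots (K := K) A (by rw [Nat.card_eq_fintype_card]; exact hA)
  haveI := finite_dual (K := K) A
  let _ := Fintype.ofFinite (A →* Kˣ)
  have hinv1 : ∀ x : Q, ρ x * ρ x⁻¹ = 1 := fun x => by rw [← map_mul, mul_inv_cancel, map_one]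
  have hinv2 : ∀ x : Q, ρ x⁻¹ * ρ x = 1 := fun x => by rw [← map_mul, inv_mul_cancel, map_one]
  -- conjugation
  let cj : Q → Module.End K W → Module.End K W := fun x M => ρ x * M * ρ x⁻¹
  have hwd : ∀ x x', π x = π x' → ∀ M, cj x M = cj x' M := by
    intro x x' h M
    obtain ⟨k, hk, rfl⟩ : ∃ k ∈ π.ker, x' = x * k :=
      ⟨x⁻¹ * x', by rw [MonoidHom.mem_ker, map_mul, map_inv, h, inv_mul_cancel], (mul_inv_cancel_left x x').symm⟩
    obtain ⟨c, hc'⟩ := hscal k hk
    have h1 : ρ k * M = M * ρ k := LinearMap.ext fun w => by simp [hc']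
    show ρ x * M * ρ x⁻¹ = ρ (x * k) * M * ρ (x * k)⁻¹
    rw [mul_inv_rev, map_mul, map_mul]
    calc ρ x * M * ρ x⁻¹ = ρ x * (M * (ρ k * ρ k⁻¹)) * ρ x⁻¹ := by rw [hinv1, mul_one]
      _ = ρ x * (ρ k * M * ρ k⁻¹) * ρ x⁻¹ := by rw [h1]; simp only [mul_assoc]
      _ = _ := by simp only [mul_assoc]
  choose s hs using hπ
  let Φ : A →* Module.End K (Module.End K W) :=
    { toFun := fun a =>
        { toFun := fun M => cj (s a) M
          map_add' := fun M N => by simp only [cj, mul_add, add_mul]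
          map_smul' := fun c M => by simp only [cj, mul_smul_comm, smul_mul_assoc, RingHom.id_apply] }
      map_one' := LinearMap.ext fun M => by
        show cj (s 1) M = M
        rw [hwd (s 1) 1 (by rw [hs, map_one])]
        show ρ 1 * M * ρ 1⁻¹ = M
        rw [inv_one, map_one, one_mul, mul_one]
      map_mul' := fun a a' => LinearMap.ext fun M => by
        show cj (s (a * a')) M = cj (s a) (cj (s a') M)
        rw [hwd (s (a * a')) (s a * s a') (by rw [hs, map_mul, hs, hs])]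
        show ρ (s a * s a') * M * ρ (s a * s a')⁻¹ = ρ (s a) * (ρ (s a') * M * ρ (s a')⁻¹) * ρ (s a)⁻¹
        rw [mul_inv_rev, map_mul, map_mul]
        simp only [mul_assoc] }
  have hΦ : ∀ x M, Φ (π x) M = cj x M := fun x M => hwd _ _ (hs _) M
  -- all weight spaces have the same dimension
  have hmul : ∀ (ψ : A →* Kˣ) (y : Q) (M : Module.End K W), M ∈ weight Φ ψ →
      M * ρ y ∈ weight Φ (ψ * b (π y)) := by
    intro ψ y M hM a
    obtain ⟨x, rfl⟩ : ∃ x, π x = a := ⟨s a, hs a⟩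
    have h1 := hM (π x)
    rw [hΦ] at h1 ⊢
    have h2 : ρ x * ρ y = (b (π y) (π x) : K) • (ρ y * ρ x) := LinearMap.ext fun w => by
      simp only [Module.End.mul_apply, LinearMap.smul_apply]
      exact hcomm x y w
    show ρ x * (M * ρ y) * ρ x⁻¹ = _
    calc ρ x * (M * ρ y) * ρ x⁻¹ = cj x M * (ρ x * ρ y * ρ x⁻¹) := by
          show _ = ρ x * M * ρ x⁻¹ * _
          simp only [mul_assoc]
          rw [← mul_assoc (ρ x⁻¹) (ρ x), hinv2, one_mul]
      _ = _ := by
        rw [h2, h1]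
        simp only [smul_mul_assoc, mul_smul_comm, mul_assoc, hinv1, mul_one, smul_smul, MonoidHom.mul_apply,
          Units.val_mul, mul_comm (b (π y) (π x) : K)]
  have hdim : ∀ ψ : A →* Kˣ, Module.finrank K (weight Φ ψ) = Module.finrank K (weight Φ (1 : A →* Kˣ)) := by
    intro ψ
    obtain ⟨a, rfl⟩ := (pairing_bijective b hb).2 ψ
    obtain ⟨y, rfl⟩ : ∃ y, π y = a := ⟨s a, hs a⟩
    refine LinearEquiv.finrank_eq
      { toFun := fun M => ⟨(M : Module.End K W) * ρ y⁻¹, by
          have := hmul _ y⁻¹ M M.2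
          rwa [← map_mul b, ← map_mul π, mul_inv_cancel, map_one, map_one] at this⟩
        map_add' := fun M N => Subtype.ext (by simp [add_mul])
        map_smul' := fun c M => Subtype.ext (by simp [smul_mul_assoc])
        invFun := fun M => ⟨(M : Module.End K W) * ρ y, by
          have := hmul _ y M M.2
          exact (one_mul (b (π y))) ▸ this⟩
        left_inv := fun M => Subtype.ext (by simp [mul_assoc, hinv2])
        right_inv := fun M => Subtype.ext (by simp [mul_assoc, hinv1]) }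
  have htot : Module.finrank K W ^ 2 = Nat.card A * Module.finrank K (weight Φ (1 : A →* Kˣ)) := by
    rw [sq, ← Module.finrank_linearMap K K W W, finrank_eq hA Φ, Finset.sum_congr rfl (fun ψ _ => hdim ψ),
      Finset.sum_const, Finset.card_univ, smul_eq_mul, ← Nat.card_eq_fintype_card,
      CommGroup.card_monoidHom_of_hasEnoughRootsOfUnity]
  -- the operator
  obtain ⟨P, hP⟩ : ∃ P, p ^ (e + 1) = P + 1 := ⟨p ^ (e + 1) - 1, by have := pow_pos hp.pos (e + 1); omega⟩
  rw [hP] at hS ⊢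
  have hS1 : S * S ^ P = 1 := by rw [← pow_succ']; exact hS
  have hS2 : S ^ P * S = 1 := by rw [← pow_succ]; exact hS
  let β : Module.End K (Module.End K W) :=
    { toFun := fun M => S * M * S ^ P
      map_add' := fun M N => by simp only [mul_add, add_mul]
      map_smul' := fun c M => by simp only [mul_smul_comm, smul_mul_assoc, RingHom.id_apply] }
  have hβ : Function.Injective β := fun M N h => by
    have h1 : S ^ P * (S * M * S ^ P) * S = S ^ P * (S * N * S ^ P) * S := by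
      rw [show S * M * S ^ P = S * N * S ^ P from h]
    simpa only [← mul_assoc, hS2, one_mul, mul_assoc _ (S ^ P) S, mul_one] using h1
  have hcS : ∀ x, S * ρ x = ρ (θ x) * S := fun x => LinearMap.ext fun w => hc x w
  have hβc : ∀ a M, β (Φ a M) = Φ (τ a) (β M) := by
    intro a M
    obtain ⟨x, rfl⟩ : ∃ x, π x = a := ⟨s a, hs a⟩
    rw [hΦ, ← hτc, hΦ]
    show S * (ρ x * M * ρ x⁻¹) * S ^ P = ρ (θ x) * (S * M * S ^ P) * ρ (θ x)⁻¹
    have h1 : ρ x⁻¹ * S ^ P = S ^ P * ρ (θ x)⁻¹ := by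
      calc ρ x⁻¹ * S ^ P = S ^ P * (S * ρ x⁻¹) * S ^ P := by rw [← mul_assoc (S ^ P), hS2, one_mul]
        _ = _ := by rw [hcS, mul_assoc, mul_assoc, hS1, mul_one, map_inv θ]
    calc S * (ρ x * M * ρ x⁻¹) * S ^ P = (S * ρ x) * M * (ρ x⁻¹ * S ^ P) := by simp only [mul_assoc]
      _ = _ := by rw [hcS, h1]; simp only [mul_assoc]
  have hbk : ∀ (k : ℕ) a a', b ((τ ^ k) a) ((τ ^ k) a') = b a a' := by
    intro k
    induction k with
    | zero => intro a a'; rfl
    | succ k ih => intro a a'; rw [pow_succ', MulAut.mul_apply, MulAut.mul_apply, hbinv, ih]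
  have hup := fixed_upper hA Φ τ β hβ hβc (Rep.image fun a => b a) (fun ψ => by
    obtain ⟨a, rfl⟩ := (pairing_bijective b hb).2 ψ
    obtain ⟨k, hk⟩ := hcov a
    refine ⟨k, Finset.mem_image.mpr ⟨(τ ^ k) a, hk, MonoidHom.ext fun x => ?_⟩⟩
    show b ((τ ^ k) a) x = b a ((τ ^ k).symm x)
    rw [← hbk k a, MulEquiv.apply_symm_apply])
  rw [Finset.sum_congr rfl (fun ψ _ => hdim ψ), Finset.sum_const, smul_eq_mul,
    Finset.card_image_of_injective _ hb] at hup
  have hlow := comm_lower (P := P + 1) (by rw [← hP, Nat.cast_pow]; exact pow_ne_zero _ hpK) S hS hSf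
    (LinearMap.eqLocus β LinearMap.id) (fun M hM => by
      show S * M * S ^ P = M
      rw [show S * M = M * S from LinearMap.ext fun w => (hM w).symm, mul_assoc, hS1, mul_one])
  rw [Nat.add_sub_cancel, htot] at hlow
  have hpos : 0 < Module.finrank K (weight Φ (1 : A →* Kˣ)) := by
    have : 0 < Module.finrank K W ^ 2 := pow_pos Module.finrank_pos 2
    rw [htot] at this
    exact Nat.pos_of_ne_zero fun h => by rw [h, mul_zero] at this; exact lt_irrefl _ this
  have h1 : Nat.card A ≤ P * Rep.card := by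
    refine Nat.le_of_mul_le_mul_right ?_ hpos
    calc Nat.card A * _ ≤ P * _ := hlow
      _ ≤ _ := by rw [mul_assoc]; exact Nat.mul_le_mul_left _ hup
  rw [Nat.add_sub_cancel]
  exact h1

theorem counting (π : Q →* A) (hπ : Function.Surjective π) (ρ : Q →* Module.End K W) [Nontrivial W]
    (b : A →* (A →* Kˣ)) (hb : Function.Injective b) (hA : ((Fintype.card A : ℕ) : K) ≠ 0)
    (hscal : ∀ x ∈ π.ker, ∃ c : K, ∀ w, ρ x w = c • w)
    (hcomm : ∀ x y w, ρ x (ρ y w) = (b (π y) (π x) : K) • ρ y (ρ x w))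
    {p e : ℕ} (hp : p.Prime) (hpK : (p : K) ≠ 0) (θ : MulAut Q) (S : Module.End K W) (hS : S ^ p ^ (e + 1) = 1)
    (hSf : ∀ w, S w = w → w = 0) (hc : ∀ x w, S (ρ x w) = ρ (θ x) (S w)) (τ : MulAut A)
    (hτc : ∀ x, π (θ x) = τ (π x)) (hτ : τ ^ p ^ (e + 1) = 1) (hτf : ∀ a, (τ ^ p ^ e) a = a → a = 1)
    (hbinv : ∀ a a', b (τ a) (τ a') = b a a') : Nat.card A ≤ (p ^ (e + 1) - 1) ^ 2 := by
  obtain ⟨Rep, hRep, hcov⟩ := exists_reps τ hp hτ hτf
  have h1 := counting_reps π hπ ρ b hb hA hscal hcomm hp hpK θ S hS hSf hc τ hτc hτ hbinv Rep hcov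
  obtain ⟨P, hP⟩ : ∃ P, p ^ (e + 1) = P + 1 := ⟨p ^ (e + 1) - 1, by have := pow_pos hp.pos (e + 1); omega⟩
  rw [hP] at hRep h1 ⊢
  rw [Nat.add_sub_cancel] at h1 ⊢
  nlinarith

end CfsgLib.ShultGross
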