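import Mathlib
import Cfsg.Agent.Lib.ShultGross.Basic
import Cfsg.Agent.Lib.ShultGross.Linear
import Cfsg.Agent.Lib.ShultGross.Count

/-!
The key lemma of Shult and Gross: in a representation in which an operator of order dividing `p ^ (n + 1)` has no
fixed vector, the `p ^ n`-th power of the operator acts trivially on the image of a `q`-group it normalises
without fixed points.
-/

set_option autoImplicit false
set_option linter.unusedSectionVars false

namespace CfsgLib.ShultGross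

open CfsgLib.FittingHeight.Grading
open scoped commutatorElement

/-- An automorphism whose displacements generate has none fixed on an abelian image. -/
theorem fpf_of_generate {Q : Type*} [Group Q] {B : Type*} [CommGroup B] [Finite B] (θ : MulAut Q)
    (hD : Subgroup.closure (Set.range fun u => θ u * u⁻¹) = ⊤) (f : Q →* B) (hf : Function.Surjective f)
    (τ : MulAut B) (hc : ∀ u, f (θ u) = τ (f u)) : ∀ b, τ b = b → b = 1 := by
  let δ : B →* B := MonoidHom.mk' (fun b => τ b * b⁻¹) fun a b => by rw [map_mul, mul_inv, mul_mul_mul_comm]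
  have hsurj : Function.Surjective δ := by
    intro b
    obtain ⟨u, rfl⟩ := hf b
    have h : Subgroup.closure (Set.range fun u => θ u * u⁻¹) ≤ δ.range.comap f :=
      (Subgroup.closure_le _).mpr (by
        rintro _ ⟨v, rfl⟩
        exact ⟨f v, by show τ (f v) * (f v)⁻¹ = f (θ v * v⁻¹); rw [map_mul, map_inv, hc]⟩)
    rw [hD] at h
    exact h (Subgroup.mem_top u)
  intro b hb
  exact (Finite.injective_iff_surjective.mpr hsurj) (a₁ := b) (a₂ := 1) (by
    rw [map_one]; show τ b * b⁻¹ = 1; rw [hb, mul_inv_cancel])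

theorem prod_range_periodic {M : Type*} [CommMonoid M] (g : ℕ → M) (L : ℕ) (hg : ∀ k, g (k + L) = g k) :
    ∀ c, ∏ k ∈ Finset.range (L * c), g k = (∏ k ∈ Finset.range L, g k) ^ c := by
  have hgm : ∀ c k, g (L * c + k) = g k := by
    intro c
    induction c with
    | zero => intro k; rw [mul_zero, zero_add]
    | succ c ih => intro k; rw [show L * (c + 1) + k = L * c + k + L by ring, hg, ih]
  intro c
  induction c with
  | zero => simp
  | succ c ih =>
    rw [Nat.mul_succ, Finset.prod_range_add, ih, pow_succ]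
    congr 1
    exact Finset.prod_congr rfl fun k _ => hgm c k

variable {K : Type*} [Field K] [IsAlgClosed K] {W : Type*} [AddCommGroup W] [Module K W] [FiniteDimensional K W]
variable {Q : Type*} [Group Q] [Finite Q] {p q n : ℕ} [hp : Fact p.Prime] [hq : Fact q.Prime]

theorem natCast_card_ne_zero (hqK : (q : K) ≠ 0) {B : Type*} [Group B] [Finite B] (hB : IsPGroup q B) :
    (Nat.card B : K) ≠ 0 := by
  obtain ⟨a, ha⟩ := IsPGroup.iff_card.mp hB
  rw [ha, Nat.cast_pow]
  exact pow_ne_zero _ hqK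

theorem eq_one_of_coprime_orders {B : Type*} [Group B] (hpq : p ≠ q) (hB : IsPGroup q B) {z : B} {k : ℕ}
    (hz : z ^ p ^ k = 1) : z = 1 := by
  obtain ⟨a, ha⟩ := IsPGroup.iff_orderOf.mp hB z
  exact orderOf_eq_one_iff.mp (Nat.eq_one_of_dvd_coprimes
    (((Nat.coprime_primes hq.out hp.out).mpr hpq.symm).pow a k) (ha ▸ dvd_rfl) (orderOf_dvd_of_pow_eq_one hz))

/-- The minimal case cannot occur. -/
theorem minimal_case (hp2 : p ≠ 2) (hpq : p ≠ q) (hpK : (p : K) ≠ 0) (hqK : (q : K) ≠ 0) (hQ : IsPGroup q Q)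
    (θ : MulAut Q) (hθ : θ ^ p ^ (n + 1) = 1) (hfpf : ∀ x, θ x = x → x = 1) (ρ : Q →* Module.End K W)
    (hρ : ∀ x, ρ x = 1 → x = 1) (T : Module.End K W) (hT : T ^ p ^ (n + 1) = 1) (hTf : ∀ w, T w = w → w = 0)
    (hc : ∀ x w, T (ρ x w) = ρ (θ x) (T w))
    (hinv : ∀ R : Subgroup Q, R ≠ ⊤ → (∀ u ∈ R, θ u ∈ R) → ∀ u ∈ R, (θ ^ p ^ n) u = u)
    (hne : θ ^ p ^ n ≠ 1) : False := by
  classical
  have hθ0 : (θ ^ p ^ n) ^ p = 1 := by rw [← pow_mul, ← pow_succ, hθ]
  have hcomm : ∀ u, θ ((θ ^ p ^ n) u) = (θ ^ p ^ n) (θ u) := fun u => by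
    rw [← MulAut.mul_apply, ← pow_succ', pow_succ, MulAut.mul_apply]
  -- the displacements generate
  have hD : Subgroup.closure (Set.range fun u => (θ ^ p ^ n) u * u⁻¹) = ⊤ := by
    by_contra h
    refine hne (MulEquiv.ext fun u => ?_)
    have hmem : ∀ x, (θ ^ p ^ n) x * x⁻¹ ∈ Subgroup.closure (Set.range fun u => (θ ^ p ^ n) u * u⁻¹) :=
      fun x => Subgroup.subset_closure ⟨x, rfl⟩
    have hfix := hinv _ h (fun x hx => (show Subgroup.closure (Set.range fun u => (θ ^ p ^ n) u * u⁻¹) ≤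
        (Subgroup.closure (Set.range fun u => (θ ^ p ^ n) u * u⁻¹)).comap θ.toMonoidHom from
      (Subgroup.closure_le _).mpr (by
        rintro _ ⟨v, rfl⟩
        simp only [SetLike.mem_coe, Subgroup.mem_comap, MulEquiv.coe_toMonoidHom, map_mul, map_inv, hcomm]
        exact hmem (θ v))) hx)
    have h1 := pow_apply_of_fixed (θ ^ p ^ n) (u := u) (z := (θ ^ p ^ n) u * u⁻¹)
      (by rw [inv_mul_cancel_right]) (hfix _ (hmem u)) p
    rw [hθ0, MulAut.one_apply, right_eq_mul] at h1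
    rw [MulAut.one_apply]
    exact mul_inv_eq_one.mp (eq_one_of_coprime_orders (k := 1) hpq hQ (by rwa [pow_one]))
  haveI : Nontrivial Q := by
    by_contra h
    rw [not_nontrivial_iff_subsingleton] at h
    exact hne (MulEquiv.ext fun u => Subsingleton.elim _ _)
  haveI : Group.IsNilpotent Q := hQ.isNilpotent
  have hlt : commutator Q ≠ ⊤ := (Group.IsSolvable.commutator_lt_top_of_nontrivial Q).ne
  have hCinv : ∀ u ∈ commutator Q, θ u ∈ commutator Q := invariant_of_characteristic θ _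
  have hfix : ∀ z ∈ commutator Q, (θ ^ p ^ n) z = z := hinv _ hlt hCinv
  have hcen : commutator Q ≤ Subgroup.center Q := by
    intro z hz
    rw [Subgroup.mem_center_iff]
    intro g
    have hg : g ∈ Subgroup.centralizer {z} := by
      refine (Subgroup.closure_le _).mpr ?_ (hD.symm ▸ Subgroup.mem_top g)
      rintro _ ⟨u, rfl⟩
      rw [SetLike.mem_coe, Subgroup.mem_centralizer_singleton_iff]
      have h1 : u⁻¹ * z * u ∈ commutator Q := by
        have := Subgroup.Normal.conj_mem inferInstance z hz u⁻¹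
        rwa [inv_inv] at this
      have h2 := hfix _ h1
      rw [map_mul, map_mul, map_inv, hfix z hz] at h2
      show (θ ^ p ^ n) u * u⁻¹ * z = z * ((θ ^ p ^ n) u * u⁻¹)
      generalize (θ ^ p ^ n) u = v at h2 ⊢
      calc v * u⁻¹ * z = v * (u⁻¹ * z * u) * u⁻¹ := by group
        _ = v * (v⁻¹ * z * v) * u⁻¹ := by rw [h2]
        _ = z * (v * u⁻¹) := by group
    exact Subgroup.mem_centralizer_singleton_iff.mp hg
  obtain ⟨w0, hw0⟩ : ∃ w : W, w ≠ 0 := by
    by_contra h
    push Not at h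
    obtain ⟨x, hx⟩ := exists_ne (1 : Q)
    exact hx (hρ x (LinearMap.ext fun w => by rw [h w, map_zero, map_zero]))
  by_cases hab : commutator Q = ⊥
  · -- the abelian case
    letI : CommGroup Q := { (inferInstance : Group Q) with
      mul_comm := fun a b => commutatorElement_eq_one_iff_mul_comm.mp (Subgroup.mem_bot.mp (hab ▸
        Subgroup.commutator_mem_commutator (Subgroup.mem_top a) (Subgroup.mem_top b) : ⁅a, b⁆ ∈ (⊥ : Subgroup Q))) }
    let _ := Fintype.ofFinite Q
    have hX : ((Fintype.card Q : ℕ) : K) ≠ 0 := by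
      rw [← Nat.card_eq_fintype_card]; exact natCast_card_ne_zero hqK hQ
    obtain ⟨x, hx⟩ := exists_ne (1 : Q)
    refine hx (hρ x (eq_one_of_weights hX ρ (fun χ hχ v hv => ?_) x))
    by_contra hv0
    obtain ⟨i, hi, hχi, -⟩ := exists_period hX hp.out ρ θ T hc hT hTf hv hv0
    refine hχ (MonoidHom.ext fun u => ?_)
    have hu : u ∈ Subgroup.closure (Set.range fun u => (θ ^ p ^ n) u * u⁻¹) := hD.symm ▸ Subgroup.mem_top u
    refine (Subgroup.closure_le χ.ker).mpr ?_ hu
    rintro _ ⟨v, rfl⟩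
    have hk : ∀ c y, χ (((θ ^ p ^ i) ^ c) y) = χ y := by
      intro c
      induction c with
      | zero => intro y; rfl
      | succ c ih => intro y; rw [pow_succ', MulAut.mul_apply, hχi, ih]
    rw [SetLike.mem_coe, MonoidHom.mem_ker, map_mul, map_inv, mul_inv_eq_one,
      show p ^ n = p ^ i * p ^ (n - i) by rw [← pow_add, Nat.add_sub_cancel' (by omega)], pow_mul, hk]
  -- the derived group
  letI : CommGroup ↥(commutator Q) :=
    { (inferInstance : Group ↥(commutator Q)) with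
      mul_comm := fun x y => Subtype.ext (Subgroup.mem_center_iff.mp (hcen y.2) (x : Q)) }
  let _ := Fintype.ofFinite ↥(commutator Q)
  have hZ : IsPGroup q ↥(commutator Q) := hQ.to_subgroup _
  have hZK : ((Fintype.card ↥(commutator Q) : ℕ) : K) ≠ 0 := by
    rw [← Nat.card_eq_fintype_card]; exact natCast_card_ne_zero hqK hZ
  let φZ : ↥(commutator Q) →* Module.End K W := ρ.comp (commutator Q).subtype
  let γ : MulAut ↥(commutator Q) := restrictAut θ _ hCinv
  have hγc : ∀ x w, T (φZ x w) = φZ (γ x) (T w) := fun x w => hc x w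
  obtain ⟨χ, hχ, v0, hv0, hv0n⟩ : ∃ χ : ↥(commutator Q) →* Kˣ, χ ≠ 1 ∧ ∃ v ∈ weight φZ χ, v ≠ 0 := by
    by_contra h
    push Not at h
    refine hab ((Subgroup.eq_bot_iff_forall _).mpr fun z hz => hρ z ?_)
    exact eq_one_of_weights hZK φZ h ⟨z, hz⟩
  obtain ⟨j, hj, hχj, hTj⟩ := exists_period hZK hp.out φZ γ T hγc hT hTf hv0 hv0n
  obtain ⟨e, rfl⟩ : ∃ e, n = j + e := Nat.exists_eq_add_of_le (by omega)
  have hpe : p ^ (j + e + 1) = p ^ j * p ^ (e + 1) := by rw [← pow_add, add_assoc]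
  have hpe' : p ^ (j + e) = p ^ j * p ^ e := pow_add p j e
  -- the commutator pairing
  have hmem : ∀ x y : Q, ⁅x, y⁆ ∈ commutator Q := fun x y =>
    Subgroup.commutator_mem_commutator (Subgroup.mem_top _) (Subgroup.mem_top _)
  let f : Q → Q → Kˣ := fun x y => χ ⟨⁅x, y⁆, hmem x y⟩
  have hf1 : ∀ x x' y, f (x * x') y = f x y * f x' y := fun x x' y => by
    show χ _ = χ _ * χ _
    rw [← map_mul]
    congr 1
    refine Subtype.ext ?_
    show ⁅x * x', y⁆ = ⁅x, y⁆ * ⁅x', y⁆
    have h1 := Subgroup.mem_center_iff.mp (hcen (hmem x' y)) x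
    calc ⁅x * x', y⁆ = x * ⁅x', y⁆ * x⁻¹ * ⁅x, y⁆ := by simp only [commutatorElement_def]; group
      _ = ⁅x', y⁆ * ⁅x, y⁆ := by rw [h1, mul_inv_cancel_right]
      _ = _ := (Subgroup.mem_center_iff.mp (hcen (hmem x' y)) _).symm
  have hf2 : ∀ x y, f y x = (f x y)⁻¹ := fun x y => by
    show χ _ = (χ _)⁻¹
    rw [← map_inv]
    congr 1
    exact Subtype.ext (commutatorElement_inv x y).symm
  have hfxx : ∀ x, f x x = 1 := fun x => by
    show χ _ = 1
    rw [show (⟨⁅x, x⁆, hmem x x⟩ : ↥(commutator Q)) = 1 from Subtype.ext (commutatorElement_self x), map_one]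
  have hf3 : ∀ x y y', f x (y * y') = f x y * f x y' := fun x y y' => by
    rw [hf2 (y * y') x, hf1, mul_inv, ← hf2 y x, ← hf2 y' x]
  let bQ : Q →* (Q →* Kˣ) :=
    MonoidHom.mk' (fun x => MonoidHom.mk' (f x) (hf3 x)) fun x x' => MonoidHom.ext (hf1 x x')
  let R : Subgroup Q := bQ.ker
  have hR : ∀ {x}, x ∈ R ↔ ∀ y, f x y = 1 := fun {x} => by
    rw [MonoidHom.mem_ker, DFunLike.ext_iff]; rfl
  haveI : R.Normal := MonoidHom.normal_ker bQ
  have hCR : commutator Q ≤ R := fun z hz => hR.mpr fun y => by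
    show χ _ = 1
    rw [show (⟨⁅z, y⁆, hmem z y⟩ : ↥(commutator Q)) = 1 from Subtype.ext (commutatorElement_eq_one_iff_mul_comm.mpr
      (Subgroup.mem_center_iff.mp (hcen hz) y).symm), map_one]
  letI : CommGroup (Q ⧸ R) := { (inferInstance : Group (Q ⧸ R)) with
    mul_comm := fun a b => by
      obtain ⟨x, rfl⟩ := QuotientGroup.mk_surjective a
      obtain ⟨y, rfl⟩ := QuotientGroup.mk_surjective b
      refine (QuotientGroup.eq).mpr ?_
      rw [show (x * y)⁻¹ * (y * x) = ⁅y⁻¹, x⁻¹⁆ by simp only [commutatorElement_def]; group]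
      exact hCR (hmem _ _) }
  let _ := Fintype.ofFinite (Q ⧸ R)
  have hAq : IsPGroup q (Q ⧸ R) := hQ.to_quotient R
  have hAK : ((Fintype.card (Q ⧸ R) : ℕ) : K) ≠ 0 := by
    rw [← Nat.card_eq_fintype_card]; exact natCast_card_ne_zero hqK hAq
  let g : Q →* (Q ⧸ R →* Kˣ) := MonoidHom.mk'
    (fun x => QuotientGroup.lift R (bQ x) fun r hr => by
      show f x r = 1
      rw [hf2 r x, hR.mp hr x, inv_one])
    fun x x' => by
      refine MonoidHom.ext fun a => ?_
      obtain ⟨y, rfl⟩ := QuotientGroup.mk_surjective a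
      exact hf1 x x' y
  let bA : Q ⧸ R →* (Q ⧸ R →* Kˣ) := QuotientGroup.lift R g fun r hr => by
    refine MonoidHom.ext fun a => ?_
    obtain ⟨y, rfl⟩ := QuotientGroup.mk_surjective a
    exact hR.mp hr y
  have hbA : ∀ x y : Q, bA (x : Q ⧸ R) (y : Q ⧸ R) = f x y := fun x y => rfl
  have hbinj : Function.Injective bA := by
    rw [injective_iff_map_eq_one]
    intro a ha
    obtain ⟨x, rfl⟩ := QuotientGroup.mk_surjective a
    refine (QuotientGroup.eq_one_iff x).mpr (hR.mpr fun y => ?_)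
    rw [← hbA, ha]; rfl
  haveI := enoughRoots (K := K) (Q ⧸ R) (natCast_card_ne_zero hqK hAq)
  -- the automorphism of order `p ^ (e + 1)`
  have hγk : ∀ (k : ℕ) (z : ↥(commutator Q)), ((γ ^ k) z : Q) = (θ ^ k) z := fun k z => restrictAut_pow θ _ hCinv k z
  have hfτ : ∀ x y, f ((θ ^ p ^ j) x) ((θ ^ p ^ j) y) = f x y := fun x y => by
    show χ _ = χ _
    rw [← hχj ⟨⁅x, y⁆, hmem x y⟩]
    congr 1
    refine Subtype.ext ?_
    rw [hγk]
    exact (map_commutatorElement (θ ^ p ^ j) x y).symm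
  have hRinv : ∀ x ∈ R, (θ ^ p ^ j) x ∈ R := fun x hx => hR.mpr fun y => by
    obtain ⟨y, rfl⟩ := (θ ^ p ^ j).surjective y
    rw [hfτ]
    exact hR.mp hx y
  let τA : MulAut (Q ⧸ R) := quotAut (θ ^ p ^ j) R hRinv
  have hτA : τA ^ p ^ (e + 1) = 1 := quotAut_pow_eq_one _ _ _ (by rw [← pow_mul, ← hpe]; exact hθ)
  have hτAf : ∀ a, (τA ^ p ^ e) a = a → a = 1 :=
    fpf_of_generate (θ ^ p ^ (j + e)) hD (QuotientGroup.mk' R) (QuotientGroup.mk'_surjective R) _ fun u => by
      show _ = (τA ^ p ^ e) (u : Q ⧸ R)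
      rw [quotAut_pow, ← pow_mul, ← hpe']; rfl
  have hbτ : ∀ a a', bA (τA a) (τA a') = bA a a' := fun a a' => by
    obtain ⟨x, rfl⟩ := QuotientGroup.mk_surjective a
    obtain ⟨y, rfl⟩ := QuotientGroup.mk_surjective a'
    exact hfτ x y
  have hR' : R ≠ ⊤ := fun h => by
    refine hχ (MonoidHom.ext fun z => ?_)
    have hle : commutator Q ≤ χ.ker.map (commutator Q).subtype :=
      (commutator_def Q).le.trans
        (Subgroup.commutator_le.mpr fun x _ y _ => ⟨⟨⁅x, y⁆, hmem x y⟩, hR.mp (h ▸ Subgroup.mem_top x) y, rfl⟩)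
    obtain ⟨z', hz', hzz⟩ := hle z.2
    rw [← Subtype.ext hzz]
    exact hz'
  -- the bound on the quotient
  have hNle : Nat.card (Q ⧸ R) ≤ (p ^ (e + 1) - 1) ^ 2 := by
    have hcz : ∀ (x : Q) (z : ↥(commutator Q)), ρ z * ρ x = ρ x * ρ z := fun x z => by
      rw [← map_mul, ← map_mul, Subgroup.mem_center_iff.mp (hcen z.2) x]
    let U : Submodule K W := weight φZ χ
    have hU : ∀ x, ∀ w ∈ U, ρ x w ∈ U := fun x w hw z => by
      show (ρ z * ρ x) w = _
      rw [hcz x z, Module.End.mul_apply]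
      exact (congrArg (ρ x) (hw z)).trans (map_smul _ _ _)
    have hperiod : ∀ {B : Type _} [CommGroup B] (γ' : MulAut B) (χ' : B →* Kˣ) (k : ℕ),
        (∀ x, χ' ((γ' ^ k) x) = χ' x) → χ'.comp (γ' ^ k).symm.toMonoidHom = χ' := by
      intro B _ γ' χ' k h
      refine MonoidHom.ext fun x => ?_
      conv_rhs => rw [← (γ' ^ k).apply_symm_apply x, h]
      rfl
    have hTU : ∀ w ∈ U, (T ^ p ^ j) w ∈ U := fun w hw => by
      have := weight_move φZ γ T hγc hw (p ^ j)
      rwa [hperiod γ χ _ hχj] at this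
    let ρ1 := restrictRep ρ U hU
    let T1 : Module.End K U := (T ^ p ^ j).restrict hTU
    have hc1 : ∀ x (u : U), T1 (ρ1 x u) = ρ1 ((θ ^ p ^ j) x) (T1 u) := fun x u =>
      Subtype.ext (compat_pow ρ θ T hc (p ^ j) x u)
    have hT1 : T1 ^ p ^ (e + 1) = 1 := LinearMap.ext fun u => Subtype.ext (by
      rw [restrict_pow, ← pow_mul, ← hpe, hT]; rfl)
    have hT1f : ∀ u, T1 u = u → u = 0 := fun u hu => Subtype.ext (hTj u u.2 (congrArg Subtype.val hu))
    have hcomm1 : ∀ x y (u : U), ρ1 x (ρ1 y u) = (f x y : K) • ρ1 y (ρ1 x u) := fun x y u => Subtype.ext (by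
      show ρ x (ρ y u) = (f x y : K) • ρ y (ρ x u)
      rw [← Module.End.mul_apply, ← map_mul, show x * y = ⁅x, y⁆ * (y * x) by
        simp only [commutatorElement_def]; group, map_mul, Module.End.mul_apply, map_mul, Module.End.mul_apply]
      exact hU y _ (hU x _ u.2) ⟨⁅x, y⁆, hmem x y⟩)
    have hRK : ∀ {B : Subgroup Q}, IsPGroup q B := fun {B} => hQ.to_subgroup B
    let hRc : ∀ r r' : R, (ρ1.comp R.subtype).toHomUnits r * (ρ1.comp R.subtype).toHomUnits r' =
        (ρ1.comp R.subtype).toHomUnits r' * (ρ1.comp R.subtype).toHomUnits r := fun r r' => Units.ext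
      (LinearMap.ext fun u => by
        simp only [Units.val_mul, MonoidHom.coe_toHomUnits, Module.End.mul_apply, MonoidHom.comp_apply,
          Subgroup.coe_subtype]
        rw [hcomm1, hR.mp r.2, Units.val_one, one_smul])
    let φR : R ⧸ commutator R →* Module.End K U := (Units.coeHom _).comp
      (QuotientGroup.lift (commutator R) (ρ1.comp R.subtype).toHomUnits (by
        rw [commutator_def, Subgroup.commutator_le]
        intro r _ r' _
        rw [MonoidHom.mem_ker, map_commutatorElement, commutatorElement_eq_one_iff_mul_comm]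
        exact hRc r r'))
    have hφR : ∀ (r : R) u, φR (r : R ⧸ commutator R) u = ρ1 r u := fun r u => rfl
    letI : CommGroup (R ⧸ commutator R) := { (inferInstance : Group (R ⧸ commutator R)) with
      mul_comm := fun a b => mul_comm (G := Abelianization R) a b }
    let _ := Fintype.ofFinite (R ⧸ commutator R)
    have hRK' : ((Fintype.card (R ⧸ commutator R) : ℕ) : K) ≠ 0 := by
      rw [← Nat.card_eq_fintype_card]; exact natCast_card_ne_zero hqK (hRK.to_quotient _)
    let γR : MulAut (R ⧸ commutator R) := quotAut (restrictAut (θ ^ p ^ j) R hRinv) (commutator R)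
      (invariant_of_characteristic _ _)
    have hγR : ∀ a u, T1 (φR a u) = φR (γR a) (T1 u) := fun a u => by
      obtain ⟨r, rfl⟩ := QuotientGroup.mk_surjective a
      exact hc1 r u
    obtain ⟨lam, u0, hu0, hu0n⟩ := exists_weight hRK' φR (w := (⟨v0, hv0⟩ : U))
      fun h => hv0n (congrArg Subtype.val h)
    obtain ⟨i, hi, hlam, hTi⟩ := exists_period hRK' hp.out φR γR T1 hγR hT1 hT1f hu0 hu0n
    obtain ⟨e', rfl⟩ : ∃ e', e = i + e' := Nat.exists_eq_add_of_le (by omega)
    have hpi : p ^ (i + e' + 1) = p ^ i * p ^ (e' + 1) := by rw [← pow_add, add_assoc]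
    let U2 : Submodule K U := weight φR lam
    have hU2 : ∀ x, ∀ u ∈ U2, ρ1 x u ∈ U2 := fun x u hu a => by
      obtain ⟨r, rfl⟩ := QuotientGroup.mk_surjective a
      rw [hφR, hcomm1, hR.mp r.2, Units.val_one, one_smul, ← hφR, hu, map_smul]
    have hTU2 : ∀ u ∈ U2, (T1 ^ p ^ i) u ∈ U2 := fun u hu => by
      have := weight_move φR γR T1 hγR hu (p ^ i)
      rwa [hperiod γR lam _ hlam] at this
    let ρ2 := restrictRep ρ1 U2 hU2
    let T2 : Module.End K U2 := (T1 ^ p ^ i).restrict hTU2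
    haveI : Nontrivial U2 := ⟨⟨⟨u0, hu0⟩, 0, fun h => hu0n (congrArg Subtype.val h)⟩⟩
    refine (counting (QuotientGroup.mk' R) (QuotientGroup.mk'_surjective R) ρ2 bA⁻¹
      (fun a a' h => hbinj (inv_injective h)) hAK
      (fun x hx => ⟨lam ((⟨x, (QuotientGroup.eq_one_iff x).mp hx⟩ : R) : R ⧸ commutator R),
        fun u => Subtype.ext (u.2 ((⟨x, (QuotientGroup.eq_one_iff x).mp hx⟩ : R) : R ⧸ commutator R))⟩)
      (fun x y u => Subtype.ext ?_) hp.out hpK ((θ ^ p ^ j) ^ p ^ i) T2 (e := e') ?_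
      (fun u hu => Subtype.ext (hTi u u.2 (congrArg Subtype.val hu)))
      (fun x u => Subtype.ext (compat_pow ρ1 (θ ^ p ^ j) T1 hc1 (p ^ i) x u)) (τA ^ p ^ i)
      (fun x => (quotAut_pow (θ ^ p ^ j) R hRinv (p ^ i) x).symm) ?_ ?_ ?_).trans
      (Nat.pow_le_pow_left (Nat.sub_le_sub_right (Nat.pow_le_pow_right hp.out.pos (by omega)) 1) 2)
    · show ρ1 x (ρ1 y u) = (((bA (y : Q ⧸ R))⁻¹ (x : Q ⧸ R) : Kˣ) : K) • ρ1 y (ρ1 x u)
      rw [MonoidHom.inv_apply, hbA, hf2 x y, inv_inv]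
      exact hcomm1 x y _
    · exact LinearMap.ext fun u => Subtype.ext (by rw [restrict_pow, ← pow_mul, ← hpi, hT1]; rfl)
    · rw [← pow_mul, ← hpi, hτA]
    · intro a ha
      rw [← pow_mul, ← pow_add] at ha
      exact hτAf a ha
    · have hbk : ∀ (k : ℕ) a a', bA ((τA ^ k) a) ((τA ^ k) a') = bA a a' := by
        intro k
        induction k with
        | zero => intro a a'; rfl
        | succ k ih => intro a a'; rw [pow_succ', MulAut.mul_apply, MulAut.mul_apply, hbτ, ih]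
      intro a a'
      show (bA _ _)⁻¹ = (bA _ _)⁻¹
      rw [hbk]
  -- the order of the quotient
  obtain ⟨Rep, hRep, -⟩ := exists_reps τA hp.out hτA hτAf
  obtain ⟨L, hL⟩ := exists_sq bA hbinj (fun a => by
    obtain ⟨x, rfl⟩ := QuotientGroup.mk_surjective a
    exact hfxx x)
  obtain ⟨d, hd⟩ := IsPGroup.iff_card.mp (hAq.to_subgroup L)
  rw [hd] at hL
  have hN1 : 1 < Nat.card (Q ⧸ R) := by
    rw [← Subgroup.index_eq_card]
    exact Subgroup.one_lt_index_of_ne_top hR'
  have hdiv : p ^ (e + 1) ∣ (q ^ d) ^ 2 - 1 := ⟨Rep.card - 1, by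
    rw [← hL, Nat.mul_sub_one]; omega⟩
  -- the abelianization
  letI : CommGroup (Q ⧸ commutator Q) := { (inferInstance : Group (Q ⧸ commutator Q)) with
    mul_comm := fun a b => mul_comm (G := Abelianization Q) a b }
  let αX : MulAut (Q ⧸ commutator Q) := quotAut θ (commutator Q) hCinv
  have hαX : αX ^ p ^ (j + e + 1) = 1 := quotAut_pow_eq_one _ _ _ hθ
  have hαXf : ∀ a, (αX ^ p ^ (j + e)) a = a → a = 1 :=
    fpf_of_generate (θ ^ p ^ (j + e)) hD (QuotientGroup.mk' _) (QuotientGroup.mk'_surjective _) _ fun u =>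
      (quotAut_pow θ (commutator Q) hCinv (p ^ (j + e)) u).symm
  obtain ⟨Rep', hRep', -⟩ := exists_reps αX hp.out hαX hαXf
  obtain ⟨c, hcX⟩ := IsPGroup.iff_card.mp (hQ.to_quotient (commutator Q))
  -- the embedding
  let ΦQ : Q →* (Fin (p ^ j) → Q ⧸ R) :=
    MonoidHom.pi fun k => (QuotientGroup.mk' R).comp (θ ^ (k : ℕ)).toMonoidHom
  have hker : ΦQ.ker = commutator Q := by
    have hmem' : ∀ x, x ∈ ΦQ.ker ↔ ∀ k < p ^ j, (θ ^ k) x ∈ R := by
      intro x
      rw [MonoidHom.mem_ker]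
      constructor
      · intro h k hk
        exact (QuotientGroup.eq_one_iff _).mp (congrFun h ⟨k, hk⟩)
      · exact fun h => funext fun k => (QuotientGroup.eq_one_iff _).mpr (h k k.2)
    refine le_antisymm ?_ fun z hz => (hmem' z).mpr fun k _ => hCR ?_
    · have hinvK : ∀ x ∈ ΦQ.ker, θ x ∈ ΦQ.ker := fun x hx => (hmem' _).mpr fun k hk => by
        rw [← MulAut.mul_apply, ← pow_succ]
        rcases Nat.lt_or_ge (k + 1) (p ^ j) with h | h
        · exact (hmem' x).mp hx _ h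
        · rw [show k + 1 = p ^ j by omega]
          exact hRinv x (by simpa using (hmem' x).mp hx 0 (pow_pos hp.out.pos j))
      have hproper : ΦQ.ker ≠ ⊤ := fun h => hR' (eq_top_iff.mpr fun x _ => by
        simpa using (hmem' x).mp (h ▸ Subgroup.mem_top x) 0 (pow_pos hp.out.pos j))
      intro x hx
      refine (QuotientGroup.eq_one_iff x).mp (hαXf (x : Q ⧸ commutator Q) ?_)
      rw [quotAut_pow, hinv _ hproper hinvK x hx]
    · have hk := invariant_of_characteristic (θ ^ k) (commutator Q) z hz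
      exact hk
  haveI hB := enoughRoots (K := K) (Fin (p ^ j) → Q ⧸ R) (by
    rw [Nat.card_fun, Nat.cast_pow]
    exact pow_ne_zero _ (natCast_card_ne_zero hqK hAq))
  let bB : (Fin (p ^ j) → Q ⧸ R) →* ((Fin (p ^ j) → Q ⧸ R) →* Kˣ) :=
    MonoidHom.mk' (fun x => MonoidHom.mk' (fun y => ∏ k, bA (x k) (y k)) fun y y' => by
      rw [← Finset.prod_mul_distrib]
      exact Finset.prod_congr rfl fun k _ => by rw [Pi.mul_apply, map_mul])
      fun x x' => MonoidHom.ext fun y => by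
        show ∏ k, bA ((x * x') k) (y k) = (∏ k, bA (x k) (y k)) * ∏ k, bA (x' k) (y k)
        rw [← Finset.prod_mul_distrib]
        exact Finset.prod_congr rfl fun k _ => by rw [Pi.mul_apply, map_mul, MonoidHom.mul_apply]
  have hbB : Function.Injective bB := by
    rw [injective_iff_map_eq_one]
    intro x hx
    refine funext fun k => hbinj ?_
    rw [Pi.one_apply, map_one]
    refine MonoidHom.ext fun a => ?_
    have h1 := DFunLike.congr_fun hx (Pi.mulSingle k a)
    change ∏ i, bA (x i) ((Pi.mulSingle k a : Fin (p ^ j) → Q ⧸ R) i) = 1 at h1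
    rw [Finset.prod_eq_single k (fun i _ hik => by rw [Pi.mulSingle_eq_of_ne hik, map_one]) (by simp),
      Pi.mulSingle_eq_same] at h1
    exact h1
  have hiso : ∀ x ∈ ΦQ.range, ∀ y ∈ ΦQ.range, bB x y = 1 := by
    rintro _ ⟨x, rfl⟩ _ ⟨y, rfl⟩
    let z : ↥(commutator Q) := ⟨⁅x, y⁆, hmem x y⟩
    have hval : bB (ΦQ x) (ΦQ y) = ∏ k ∈ Finset.range (p ^ j), χ ((γ ^ k) z) := by
      show ∏ k : Fin (p ^ j), bA ((θ ^ (k : ℕ)) x : Q ⧸ R) ((θ ^ (k : ℕ)) y : Q ⧸ R) = _
      rw [← Fin.prod_univ_eq_prod_range]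
      refine Finset.prod_congr rfl fun k _ => ?_
      rw [hbA]
      show χ _ = χ _
      congr 1
      refine Subtype.ext ?_
      rw [hγk]
      exact (map_commutatorElement (θ ^ (k : ℕ)) x y).symm
    rw [hval]
    have hper : ∀ k, χ ((γ ^ (k + p ^ j)) z) = χ ((γ ^ k) z) := fun k => by
      rw [add_comm, pow_add, MulAut.mul_apply, hχj]
    have hz' : ∏ k ∈ Finset.range (p ^ (j + e)), (γ ^ k) z = 1 := by
      have hfixz : (γ ^ p ^ (j + e)) z = z := Subtype.ext (by rw [hγk]; exact hfix _ z.2)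
      obtain ⟨m, hm⟩ : ∃ m, p ^ (j + e) = m + 1 :=
        ⟨p ^ (j + e) - 1, by have := pow_pos hp.out.pos (j + e); omega⟩
      rw [hm] at hfixz ⊢
      refine Subtype.ext (hfpf _ (congrArg Subtype.val (show γ _ = _ from ?_)))
      rw [map_prod, Finset.prod_range_succ' (fun k => (γ ^ k) z), Finset.prod_range_succ]
      congr 1
      · exact Finset.prod_congr rfl fun k _ => by rw [pow_succ', MulAut.mul_apply]
      · rw [← MulAut.mul_apply, ← pow_succ', hfixz, pow_zero, MulAut.one_apply]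
    have h2 := congrArg χ hz'
    rw [map_prod, map_one, hpe', prod_range_periodic (fun k => χ ((γ ^ k) z)) _ hper] at h2
    rw [← map_prod] at h2 ⊢
    obtain ⟨a, ha⟩ := IsPGroup.iff_orderOf.mp hZ (∏ k ∈ Finset.range (p ^ j), (γ ^ k) z)
    exact orderOf_eq_one_iff.mp (Nat.eq_one_of_dvd_coprimes (((Nat.coprime_primes hq.out hp.out).mpr hpq.symm).pow a e)
      (ha ▸ orderOf_map_dvd χ _) (orderOf_dvd_of_pow_eq_one h2))
  have hcard := card_isotropic bB hbB ΦQ.range hiso
  rw [← Subgroup.index_ker, hker, Subgroup.index_eq_card, hcX, Nat.card_fun, Nat.card_fin, hL, ← pow_mul, ← pow_mul,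
    ← pow_mul] at hcard
  have hc' : c * 2 ≤ d * 2 * p ^ j := by
    rw [mul_assoc]
    refine (Nat.pow_le_pow_iff_right hq.out.one_lt).mp ?_
    exact hcard
  have hXdiv : p ^ (j + e + 1) ∣ q ^ c - 1 := ⟨Rep'.card - 1, by
    rw [← hcX, Nat.mul_sub_one]; omega⟩
  have hc0 : 0 < c := by
    by_contra h
    rw [show c = 0 by omega, pow_zero] at hcX
    exact hlt (Subgroup.index_eq_one.mp (by rw [Subgroup.index_eq_card, hcX]))
  refine arith (p := p) (q := q) (d := d) (e := c) (j := j) (m := e + 1) hp.out hp2 hq.out.two_le (by omega) ?_ hdiv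
    (hL ▸ hNle) hc0 (by nlinarith) (by rwa [show e + 1 + j = j + e + 1 by omega])
  by_contra h
  have : q ^ d ≤ 1 := by omega
  rw [hL] at hN1
  nlinarith

/-- The key lemma. -/
theorem key (hp2 : p ≠ 2) (hpq : p ≠ q) (hpK : (p : K) ≠ 0) (hqK : (q : K) ≠ 0) (T : Module.End K W)
    (hT : T ^ p ^ (n + 1) = 1) (hTf : ∀ w, T w = w → w = 0) :
    ∀ (N : ℕ) (Q : Type*) [Group Q] [Finite Q], Nat.card Q = N → IsPGroup q Q → ∀ (θ : MulAut Q),
      θ ^ p ^ (n + 1) = 1 → (∀ x, θ x = x → x = 1) → ∀ ρ : Q →* Module.End K W,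
      (∀ x w, T (ρ x w) = ρ (θ x) (T w)) → ∀ x, ρ ((θ ^ p ^ n) x) = ρ x := by
  intro N
  induction N using Nat.strong_induction_on with
  | _ N ih =>
    intro Q _ _ hN hQ θ hθ hfpf ρ hc
    have hker : ∀ x ∈ ρ.ker, θ x ∈ ρ.ker := fun x hx => by
      rw [MonoidHom.mem_ker] at hx ⊢
      obtain ⟨P, hP⟩ : ∃ P, p ^ (n + 1) = P + 1 := ⟨p ^ (n + 1) - 1, by have := pow_pos hp.out.pos (n + 1); omega⟩
      refine LinearMap.ext fun w => ?_
      have hsurj : T ((T ^ P) w) = w := by rw [← Module.End.mul_apply, ← pow_succ', ← hP, hT]; rfl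
      have h1 := hc x ((T ^ P) w)
      rw [hx, Module.End.one_apply, hsurj] at h1
      exact h1.symm
    by_cases hinj : ρ.ker = ⊥
    swap
    · intro x
      have hlt : Nat.card (Q ⧸ ρ.ker) < N := by
        rw [← hN, Subgroup.card_eq_card_quotient_mul_card_subgroup ρ.ker]
        exact lt_mul_of_one_lt_right Nat.card_pos ((Subgroup.one_lt_card_iff_ne_bot _).mpr hinj)
      have h1 := ih _ hlt (Q ⧸ ρ.ker) rfl (hQ.to_quotient _) (quotAut θ ρ.ker hker) (quotAut_pow_eq_one _ _ _ hθ)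
        (quotAut_fpf θ ρ.ker hker hfpf) (QuotientGroup.lift ρ.ker ρ le_rfl) (fun a w => by
          obtain ⟨y, rfl⟩ := QuotientGroup.mk_surjective a
          exact hc y w) (x : Q ⧸ ρ.ker)
      rw [quotAut_pow] at h1
      exact h1
    have hρ : ∀ x, ρ x = 1 → x = 1 := fun x hx => Subgroup.mem_bot.mp (hinj ▸ hx)
    intro x
    by_contra hx
    refine minimal_case hp2 hpq hpK hqK hQ θ hθ hfpf ρ hρ T hT hTf hc (fun R hR hRinv u hu => ?_)
      fun h => hx (by rw [h]; rfl)
    have hlt : Nat.card R < N := hN ▸ lt_of_le_of_ne R.card_le_card_group fun h => hR (R.eq_top_of_card_eq h)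
    have h1 := ih _ hlt R rfl (hQ.to_subgroup R) (restrictAut θ R hRinv) (restrictAut_pow_eq_one _ _ _ hθ)
      (fun y hy => restrictAut_fpf θ R hRinv hfpf y hy) (ρ.comp R.subtype) (fun y w => hc y w) ⟨u, hu⟩
    rw [MonoidHom.comp_apply, MonoidHom.comp_apply, Subgroup.coe_subtype, restrictAut_pow] at h1
    refine mul_inv_eq_one.mp (hρ _ ?_)
    rw [map_mul, h1, ← map_mul, mul_inv_cancel, map_one]

end CfsgLib.ShultGross
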