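import Mathlib
import Cfsg.Agent.Lib.FrobAction.Dim
import Cfsg.Agent.Lib.ShultGross.Basic

/-!
An action on an elementary abelian group, made into a representation over an algebraically closed field.
-/

set_option autoImplicit false
set_option linter.unusedSectionVars false

open scoped TensorProduct

namespace CfsgLib.ShultGross

universe u

theorem exists_module_of_action {V : Type u} [CommGroup V] [Finite V] (r : ℕ) [Fact r.Prime]
    (hexp : ∀ v : V, v ^ r = 1) {Q : Type*} [Group Q] (act : Q →* MulAut V) (sq : MulAut V) (θ : MulAut Q)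
    (hcomp : ∀ a v, sq (act a v) = act (θ a) (sq v)) (hfpf : ∀ v, sq v = v → v = 1) :
    ∃ (W : Type u) (_ : AddCommGroup W) (_ : Module (AlgebraicClosure (ZMod r)) W)
      (_ : FiniteDimensional (AlgebraicClosure (ZMod r)) W)
      (ρ : Q →* Module.End (AlgebraicClosure (ZMod r)) W) (T : Module.End (AlgebraicClosure (ZMod r)) W),
      (∀ a w, T (ρ a w) = ρ (θ a) (T w)) ∧ (∀ k : ℕ, sq ^ k = 1 → T ^ k = 1) ∧ (∀ w, T w = w → w = 0) ∧
      (∀ a, ρ a = 1 ↔ act a = 1) ∧
      (∀ P k : ℕ, r ≠ 2 → (sq ^ P) ^ 2 = 1 → (∀ v, (sq ^ P) v = v → (sq ^ k) v = v) →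
        ∀ w, (T ^ P) w = w → (T ^ k) w = w) := by
  classical
  have hexp' : ∀ a : Additive V, r • a = 0 := fun a => Additive.toMul.injective (hexp a.toMul)
  letI : Module (ZMod r) (Additive V) := AddCommGroup.zmodModule (n := r) (G := Additive V) hexp'
  have : Module.Finite (ZMod r) (Additive V) := Module.Finite.of_finite
  let lin : MulAut V → Module.End (ZMod r) (Additive V) := fun e =>
    AddMonoidHom.toZModLinearMap r (MonoidHom.toAdditive (e : V →* V))
  let α : Q →* Module.End (ZMod r) (Additive V) :=
    { toFun := fun a => lin (act a)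
      map_one' := LinearMap.ext fun v => by
        apply Additive.toMul.injective
        show act 1 (Additive.toMul v) = Additive.toMul v
        rw [map_one]; rfl
      map_mul' := fun a b => LinearMap.ext fun v => by
        apply Additive.toMul.injective
        show act (a * b) (Additive.toMul v) = act a (act b (Additive.toMul v))
        rw [map_mul]; rfl }
  let T0 : Module.End (ZMod r) (Additive V) := lin sq
  have hpow : ∀ (k : ℕ) v, (T0 ^ k) v = Additive.ofMul ((sq ^ k) (Additive.toMul v)) := by
    intro k
    induction k with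
    | zero => intro v; rfl
    | succ k ih => intro v; rw [pow_succ', pow_succ', Module.End.mul_apply, MulAut.mul_apply, ih]; rfl
  let K := AlgebraicClosure (ZMod r)
  let bc := (Module.End.baseChangeHom (ZMod r) K (Additive V))
  have hinj : ∀ f, bc f = 1 → f = 1 := fun f hf => LinearMap.ext fun v =>
    Module.FaithfullyFlat.tensorProduct_mk_injective (A := ZMod r) (B := K) (Additive V)
      (LinearMap.congr_fun hf ((1 : K) ⊗ₜ[ZMod r] v))
  refine ⟨TensorProduct (ZMod r) K (Additive V), inferInstance, inferInstance, inferInstance,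
    bc.toMonoidHom.comp α, bc T0, fun a w => ?_, fun k hk => ?_, fun w hw => ?_, fun a => ⟨fun ha => ?_, fun ha => ?_⟩,
    fun P k hr2 hP hfix w hw => ?_⟩
  · show (bc T0 * bc (α a)) w = (bc (α (θ a)) * bc T0) w
    rw [← map_mul, ← map_mul]
    congr 2
    exact LinearMap.ext fun v => Additive.toMul.injective (hcomp a v.toMul)
  · have h : T0 ^ k = 1 := LinearMap.ext fun v => by rw [hpow, hk]; rfl
    rw [← map_pow, h, map_one]
  · have h0 : CfsgLib.FrobAction.fixedSub (fun _ : Unit => T0) = ⊥ := by
      rw [Submodule.eq_bot_iff]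
      intro v hv
      rw [CfsgLib.FrobAction.mem_fixedSub] at hv
      exact Additive.toMul.injective (hfpf v.toMul (congrArg Additive.toMul (hv ())))
    have h1 := CfsgLib.FrobAction.finrank_fixedSub_baseChange K (fun _ : Unit => T0)
    rw [h0, finrank_bot, Submodule.finrank_eq_zero] at h1
    have hmem : w ∈ CfsgLib.FrobAction.fixedSub fun _ : Unit => LinearMap.baseChange K T0 :=
      CfsgLib.FrobAction.mem_fixedSub.2 fun _ => hw
    rwa [h1, Submodule.mem_bot] at hmem
  · have h := hinj (α a) ha
    exact MulEquiv.ext fun v => congrArg Additive.toMul (LinearMap.congr_fun h (Additive.ofMul v))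
  · have h : α a = 1 := LinearMap.ext fun v => by
      apply Additive.toMul.injective
      show act a (Additive.toMul v) = Additive.toMul v
      rw [ha]; rfl
    show bc (α a) = 1
    rw [h, map_one]
  · have hrel : (T0 ^ k - 1) * (T0 ^ P + 1) = 0 := by
      refine LinearMap.ext fun v => ?_
      rw [Module.End.mul_apply, LinearMap.sub_apply, Module.End.one_apply, LinearMap.zero_apply, sub_eq_zero,
        LinearMap.add_apply, Module.End.one_apply, hpow, hpow]
      refine congrArg Additive.ofMul (hfix _ ?_)
      show (sq ^ P) ((sq ^ P) v.toMul * v.toMul) = (sq ^ P) v.toMul * v.toMul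
      rw [map_mul, ← MulAut.mul_apply, ← pow_two, hP, MulAut.one_apply, mul_comm]
    have h2 : (2 : K) ≠ 0 := fun h => by
      have h' : ((2 : ℕ) : K) = 0 := by exact_mod_cast h
      rw [CharP.cast_eq_zero_iff K r] at h'
      exact hr2 ((Nat.prime_dvd_prime_iff_eq Fact.out Nat.prime_two).1 h')
    have hr := LinearMap.congr_fun (congrArg bc hrel) w
    rw [map_mul, map_sub, map_add, map_pow, map_pow, map_one, map_zero, Module.End.mul_apply, LinearMap.add_apply,
      Module.End.one_apply, hw, LinearMap.sub_apply, Module.End.one_apply, LinearMap.zero_apply, sub_eq_zero,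
      ← two_smul K w, map_smul] at hr
    exact smul_right_injective _ h2 hr

end CfsgLib.ShultGross
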