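import Mathlib
import Cfsg.Agent.Lib.Elementary
import Cfsg.Agent.Lib.CoprimeGen
import Cfsg.Agent.Lib.ShultGross.Module

/-!
The representation of an invariant `q`-subgroup on the Frattini quotient of a normal `r`-subgroup.
-/

set_option autoImplicit false
set_option linter.unusedSectionVars false

open scoped commutatorElement

namespace CfsgLib.ShultGross

universe u

theorem exists_frattini_module {G : Type u} [Group G] [Finite G] {q r P : ℕ} [Fact q.Prime] [Fact r.Prime]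
    (hqr : q ≠ r) (σ : MulAut G) (hσ : σ ^ P = 1) (hfpf : ∀ g, σ g = g → g = 1) (Q : Subgroup G)
    (hQ : IsPGroup q Q) (hQi : ∀ x ∈ Q, σ x ∈ Q) (R : Subgroup G) [R.Normal] (hR : IsPGroup r R)
    (hRi : ∀ x ∈ R, σ x ∈ R) :
    ∃ (W : Type u) (_ : AddCommGroup W) (_ : Module (AlgebraicClosure (ZMod r)) W)
      (_ : FiniteDimensional (AlgebraicClosure (ZMod r)) W)
      (ρ : Q →* Module.End (AlgebraicClosure (ZMod r)) W) (T : Module.End (AlgebraicClosure (ZMod r)) W),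
      (∀ a w, T (ρ a w) = ρ (restrictAut σ Q hQi a) (T w)) ∧ T ^ P = 1 ∧ (∀ w, T w = w → w = 0) ∧
      ∀ a : Q, ρ a = 1 ↔ (a : G) ∈ Subgroup.centralizer (R : Set G) := by
  classical
  set Φ := frattini (R : Subgroup G) with hΦ
  letI : CommGroup (R ⧸ Φ) := { (inferInstance : Group (R ⧸ Φ)) with
    mul_comm := fun a b => by
      obtain ⟨x, rfl⟩ := QuotientGroup.mk_surjective a
      obtain ⟨y, rfl⟩ := QuotientGroup.mk_surjective b
      refine (QuotientGroup.eq).mpr (CfsgLib.commutator_le_frattini_pGroup hR ?_)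
      rw [show (x * y)⁻¹ * (y * x) = ⁅y⁻¹, x⁻¹⁆ by simp only [commutatorElement_def]; group]
      exact Subgroup.commutator_mem_commutator (Subgroup.mem_top _) (Subgroup.mem_top _) }
  let cq : Q → MulAut (R ⧸ Φ) := fun a => quotAut (MulAut.conjNormal (a : G)) Φ (invariant_of_characteristic _ Φ)
  let act : Q →* MulAut (R ⧸ Φ) :=
    { toFun := cq
      map_one' := MulEquiv.ext fun v => by
        obtain ⟨y, rfl⟩ := QuotientGroup.mk_surjective v
        show ((MulAut.conjNormal ((1 : Q) : G) y : R) : R ⧸ Φ) = _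
        rw [Subgroup.coe_one, map_one]; rfl
      map_mul' := fun a b => MulEquiv.ext fun v => by
        obtain ⟨y, rfl⟩ := QuotientGroup.mk_surjective v
        show ((MulAut.conjNormal (((a * b : Q)) : G) y : R) : R ⧸ Φ) = _
        rw [Subgroup.coe_mul, map_mul]; rfl }
  let σR : MulAut R := restrictAut σ R hRi
  obtain ⟨W, i1, i2, i3, ρ, T, hc, hT, hTf, hker, -⟩ := exists_module_of_action r (fun v => by
    obtain ⟨y, rfl⟩ := QuotientGroup.mk_surjective v
    rw [← QuotientGroup.mk_pow, QuotientGroup.eq_one_iff]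
    exact CfsgLib.pow_mem_frattini_pGroup hR y) act
    (quotAut σR Φ (invariant_of_characteristic _ Φ)) (restrictAut σ Q hQi) (fun a v => by
      obtain ⟨y, rfl⟩ := QuotientGroup.mk_surjective v
      show ((σR (MulAut.conjNormal (a : G) y) : R) : R ⧸ Φ) = ((MulAut.conjNormal (σ (a : G)) (σR y) : R) : R ⧸ Φ)
      congr 1
      refine Subtype.ext ?_
      show σ ((a : G) * y * (a : G)⁻¹) = σ a * σ y * (σ a)⁻¹
      rw [map_mul, map_mul, map_inv])
    (quotAut_fpf σR Φ _ (restrictAut_fpf σ R hRi hfpf))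
  refine ⟨W, i1, i2, i3, ρ, T, hc, hT P (quotAut_pow_eq_one σR Φ _ (restrictAut_pow_eq_one σ R hRi hσ)), hTf,
    fun g => ⟨fun hg => ?_, fun hg => ?_⟩⟩
  swap
  · refine (hker g).mpr (MulEquiv.ext fun v => ?_)
    obtain ⟨y, rfl⟩ := QuotientGroup.mk_surjective v
    show ((MulAut.conjNormal (g : G) y : R) : R ⧸ Φ) = _
    rw [MulAut.one_apply]
    congr 1
    refine Subtype.ext ?_
    show (g : G) * y * (g : G)⁻¹ = y
    rw [← Subgroup.mem_centralizer_iff.mp hg _ y.2, mul_inv_cancel_right]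
  have hle : Subgroup.zpowers g ≤ act.ker := Subgroup.zpowers_le.mpr ((hker g).mp hg)
  refine CfsgLib.centralize_of_trivial_mod_frattini (A := (Subgroup.zpowers g).map Q.subtype) (K := R)
    (by rw [Subgroup.normalizer_eq_top_iff.mpr inferInstance]; exact le_top) ?_ ?_ ⟨g, Subgroup.mem_zpowers g, rfl⟩
  · obtain ⟨a, ha⟩ := IsPGroup.iff_card.mp ((hQ.to_subgroup (Subgroup.zpowers g)).map Q.subtype)
    obtain ⟨b, hb⟩ := IsPGroup.iff_card.mp (hR.to_subgroup Φ)
    rw [ha, hb]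
    exact ((Nat.coprime_primes Fact.out Fact.out).mpr hqr).pow a b
  · rintro _ ⟨a, ha, rfl⟩ k hk
    refine ⟨MulAut.conjNormal (a : G) ⟨k, hk⟩ * (⟨k, hk⟩ : R)⁻¹, ?_, rfl⟩
    have h2 : act a ((⟨k, hk⟩ : R) : R ⧸ Φ) = ((⟨k, hk⟩ : R) : R ⧸ Φ) :=
      DFunLike.congr_fun (MonoidHom.mem_ker.mp (hle ha)) _
    have h3 : ((MulAut.conjNormal (a : G) ⟨k, hk⟩ : R) : R ⧸ Φ) = ((⟨k, hk⟩ : R) : R ⧸ Φ) := h2
    rw [SetLike.mem_coe, ← QuotientGroup.eq_one_iff]
    show (((MulAut.conjNormal (a : G) ⟨k, hk⟩ * (⟨k, hk⟩ : R)⁻¹ : R)) : R ⧸ Φ) = 1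
    rw [QuotientGroup.mk_mul, h3, QuotientGroup.mk_inv, mul_inv_cancel]

end CfsgLib.ShultGross
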