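import Mathlib
import Cfsg.Agent.Lib.ShultGross.Core
import Cfsg.Agent.Lib.ShultGross.Frattini

/-!
The key lemma applied to an invariant `q`-subgroup acting on the Frattini quotient of a normal `r`-subgroup.
-/

set_option autoImplicit false
set_option linter.unusedSectionVars false

namespace CfsgLib.ShultGross

universe u

theorem section_trivial {G : Type u} [Group G] [Finite G] {p q r n : ℕ} [Fact p.Prime] [Fact q.Prime]
    [Fact r.Prime] (hp2 : p ≠ 2) (hpq : p ≠ q) (hpr : p ≠ r) (hqr : q ≠ r) (σ : MulAut G)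
    (hσ : σ ^ p ^ (n + 1) = 1) (hfpf : ∀ g, σ g = g → g = 1) (Q : Subgroup G) (hQ : IsPGroup q Q)
    (hQi : ∀ x ∈ Q, σ x ∈ Q) (R : Subgroup G) [R.Normal] (hR : IsPGroup r R) (hRi : ∀ x ∈ R, σ x ∈ R) :
    ∀ x ∈ Q, x⁻¹ * (σ ^ p ^ n) x ∈ Subgroup.centralizer (R : Set G) := by
  obtain ⟨W, _, _, _, ρ, T, hc, hT, hTf, hker⟩ := exists_frattini_module hqr σ hσ hfpf Q hQ hQi R hR hRi
  have hcast : ∀ m : ℕ, m.Prime → m ≠ r → (m : AlgebraicClosure (ZMod r)) ≠ 0 := fun m hm hne h => by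
    rw [CharP.cast_eq_zero_iff (AlgebraicClosure (ZMod r)) r] at h
    exact hne ((Nat.prime_dvd_prime_iff_eq (Fact.out : r.Prime) hm).1 h).symm
  intro x hx
  have hkey := key (q := q) (n := n) hp2 hpq (hcast p Fact.out hpr) (hcast q Fact.out hqr) T hT hTf (Nat.card Q) Q
    rfl hQ (restrictAut σ Q hQi) (restrictAut_pow_eq_one σ Q hQi hσ) (restrictAut_fpf σ Q hQi hfpf) ρ hc ⟨x, hx⟩
  have h := (hker ((⟨x, hx⟩ : Q)⁻¹ * (restrictAut σ Q hQi ^ p ^ n) ⟨x, hx⟩)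
    ).mp (by rw [map_mul, hkey, ← map_mul, inv_mul_cancel, map_one])
  rw [Subgroup.coe_mul, Subgroup.coe_inv, restrictAut_pow] at h
  exact h

end CfsgLib.ShultGross
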