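import Mathlib
import Cfsg.Agent.Lib.Basic
import Cfsg.Agent.Lib.PRegularClass
import Cfsg.Agent.Lib.FixedFittingLength.Residual
import Cfsg.Agent.Lib.ShultGross.Section

/-!
The theorem of Shult and Gross, by induction on the exponent.
-/

set_option autoImplicit false
set_option linter.unusedSectionVars false

namespace CfsgLib.ShultGross

open Cfsg

universe u

theorem fitting_invariant {G : Type u} [Group G] [Finite G] (σ : MulAut G) :
    ∀ x ∈ fittingSubgroup G, σ x ∈ fittingSubgroup G := by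
  intro x hx
  have h : (fittingSubgroup G).map σ.toMonoidHom = fittingSubgroup G := by
    rw [CfsgLib.fittingSubgroup_eq_iSup_pCore, Subgroup.map_iSup]
    exact iSup_congr fun p => CfsgLib.pCore_map_equiv (p : ℕ) σ
  exact h ▸ ⟨x, hx, rfl⟩

/-- An element of a normal subgroup which is a `q`-group modulo the Fitting subgroup lies in the Fitting subgroup
if it centralises all the other cores. -/
theorem mem_fitting_of_centralizes {G : Type u} [Group G] [Finite G] {q : ℕ} [Fact q.Prime] (L : Subgroup G)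
    [L.Normal] (hL : ∀ y ∈ L, ∃ s, y ^ q ^ s ∈ fittingSubgroup G) {g : G} (hg : g ∈ L)
    (hcent : ∀ r : {r : Nat.Primes // (r : ℕ) ≠ q}, g ∈ Subgroup.centralizer (pCore (r.1 : ℕ) G : Set G)) :
    g ∈ fittingSubgroup G := by
  classical
  set F := fittingSubgroup G with hF
  set N := L ⊓ ⨅ r : {r : Nat.Primes // (r : ℕ) ≠ q}, Subgroup.centralizer (pCore (r.1 : ℕ) G : Set G) with hN
  haveI : N.Normal := by
    haveI : (⨅ r : {r : Nat.Primes // (r : ℕ) ≠ q}, Subgroup.centralizer (pCore (r.1 : ℕ) G : Set G)).Normal :=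
      Subgroup.normal_iInf_normal fun r => inferInstance
    infer_instance
  set O := ⨆ r : {r : Nat.Primes // (r : ℕ) ≠ q}, pCore (r.1 : ℕ) G with hO
  haveI hOn : O.Normal := Subgroup.iSup_normal _
  have hON : O ≤ Subgroup.centralizer (N : Set G) := iSup_le fun r =>
    Subgroup.le_centralizer_iff.mp (inf_le_right.trans (iInf_le _ r))
  have hFle : F ≤ pCore q G ⊔ O := by
    rw [hF, CfsgLib.fittingSubgroup_eq_iSup_pCore]
    refine iSup_le fun r => ?_
    by_cases hr : (r : ℕ) = q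
    · exact le_sup_of_le_left (by rw [hr])
    · exact le_sup_of_le_right (le_iSup (fun r : {r : Nat.Primes // (r : ℕ) ≠ q} => pCore (r.1 : ℕ) G) ⟨r, hr⟩)
  have hnil : Group.IsNilpotent N := by
    haveI : (O.subgroupOf N).Normal := inferInstance
    have hpg : IsPGroup q (N ⧸ O.subgroupOf N) := by
      intro a
      obtain ⟨⟨y, hy⟩, rfl⟩ := QuotientGroup.mk_surjective a
      obtain ⟨s, h1⟩ := hL y hy.1
      obtain ⟨u, hu, v, hv, huv⟩ := Subgroup.mem_sup_of_normal_left.mp (hFle h1)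
      obtain ⟨t, ht⟩ := CfsgLib.isPGroup_pCore (G := G) q ⟨u, hu⟩
      have ht' : u ^ q ^ t = 1 := congrArg Subtype.val ht
      refine ⟨s + t, ?_⟩
      rw [← QuotientGroup.mk_pow, QuotientGroup.eq_one_iff, Subgroup.mem_subgroupOf, SubgroupClass.coe_pow,
        pow_add, pow_mul, ← QuotientGroup.eq_one_iff]
      show (((y ^ q ^ s) ^ q ^ t : G) : G ⧸ O) = 1
      rw [← huv, QuotientGroup.mk_pow, QuotientGroup.mk_mul, (QuotientGroup.eq_one_iff v).mpr hv, mul_one,
        ← QuotientGroup.mk_pow, ht', QuotientGroup.mk_one]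
    haveI := hpg.isNilpotent
    refine Subgroup.isNilpotent_of_ker_le_center (QuotientGroup.mk' (O.subgroupOf N)) ?_
    rw [QuotientGroup.ker_mk']
    intro a ha
    rw [Subgroup.mem_center_iff]
    intro b
    exact Subtype.ext (Subgroup.mem_centralizer_iff.mp (hON ha) b b.2)
  exact CfsgLib.le_fittingSubgroup hnil (show g ∈ N from ⟨hg, Subgroup.mem_iInf.mpr hcent⟩)

/-- A `p`-core of the quotient by the Fitting subgroup is fixed by the top power. -/
theorem pCore_fixed {G : Type u} [Group G] [Finite G] {p n : ℕ} [Fact p.Prime] (σ : MulAut G)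
    (hσ : σ ^ p ^ (n + 1) = 1) (hfpf : ∀ g, σ g = g → g = 1) (q : ℕ) [Fact q.Prime]
    (hsec : ∀ r : ℕ, r.Prime → q ≠ r → p ≠ r → ∀ Q : Subgroup G, IsPGroup q Q → (∀ x ∈ Q, σ x ∈ Q) →
      ∀ x ∈ Q, x⁻¹ * (σ ^ p ^ n) x ∈ Subgroup.centralizer (pCore r G : Set G)) :
    ∀ x ∈ pCore q (G ⧸ fittingSubgroup G),
      (quotAut σ (fittingSubgroup G) (fitting_invariant σ) ^ p ^ n) x = x := by
  classical
  set F := fittingSubgroup G with hF
  set σq := quotAut σ F (fitting_invariant σ) with hσq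
  have hπ : Function.Surjective (QuotientGroup.mk' F) := QuotientGroup.mk'_surjective F
  set L := (pCore q (G ⧸ F)).comap (QuotientGroup.mk' F) with hL
  have hLi : ∀ x ∈ L, σ x ∈ L := fun x hx => by
    have := invariant_of_characteristic σq (pCore q (G ⧸ F)) (x : G ⧸ F) hx
    exact this
  obtain ⟨QL, hQL⟩ := exists_invariant_sylow (restrictAut σ L hLi) (restrictAut_fpf σ L hLi hfpf) q
  set Q := (QL : Subgroup L).map L.subtype with hQdef
  have hQ : IsPGroup q Q := QL.2.map _
  have hQi : ∀ x ∈ Q, σ x ∈ Q := by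
    rintro _ ⟨y, hy, rfl⟩
    exact ⟨restrictAut σ L hLi y, hQL y hy, rfl⟩
  intro x hx
  -- lift `x` to `Q`
  obtain ⟨z, hz, rfl⟩ : ∃ z ∈ Q, (z : G ⧸ F) = x := by
    let f : L →* pCore q (G ⧸ F) := ((QuotientGroup.mk' F).comp L.subtype).codRestrict _ fun y => y.2
    have hf : Function.Surjective f := fun y => by
      obtain ⟨g, hg⟩ := hπ y.1
      exact ⟨⟨g, show QuotientGroup.mk' F g ∈ _ from hg ▸ y.2⟩, Subtype.ext hg⟩
    have htop : (QL.mapSurjective hf : Subgroup (pCore q (G ⧸ F))) = ⊤ :=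
      ((QL.mapSurjective hf).is_maximal' ((CfsgLib.isPGroup_pCore q).of_equiv Subgroup.topEquiv.symm) le_top).symm
    obtain ⟨y, hy, hyx⟩ : (⟨x, hx⟩ : pCore q (G ⧸ F)) ∈ ((QL : Subgroup L).map f : Subgroup _) :=
      (htop.trans rfl).ge (Subgroup.mem_top _)
    exact ⟨y, ⟨y, hy, rfl⟩, congrArg Subtype.val hyx⟩
  set g := z⁻¹ * (σ ^ p ^ n) z with hg
  have hzn : (σ ^ p ^ n) z ∈ Q := by
    rw [← restrictAut_pow σ Q hQi (p ^ n) ⟨z, hz⟩]; exact SetLike.coe_mem _
  have hgQ : g ∈ Q := Q.mul_mem (Q.inv_mem hz) hzn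
  have hcent : ∀ r : {r : Nat.Primes // (r : ℕ) ≠ q}, g ∈ Subgroup.centralizer (pCore (r.1 : ℕ) G : Set G) := by
    intro r
    haveI := Fact.mk r.1.2
    by_cases hpr : p = r.1
    · have hb : pCore (r.1 : ℕ) G = ⊥ := by
        rw [← hpr]
        refine Subgroup.eq_bot_of_card_eq _ ?_
        obtain ⟨a, ha⟩ := IsPGroup.iff_card.mp (CfsgLib.isPGroup_pCore (G := G) p)
        rcases a with _ | a
        · simpa using ha
        · exact absurd ((dvd_pow_self p a.succ_ne_zero).trans (ha ▸ Subgroup.card_subgroup_dvd_card _))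
            (not_dvd_card σ hσ hfpf)
      rw [hb, Subgroup.mem_centralizer_iff]
      intro y hy
      rw [Subgroup.coe_bot, Set.mem_singleton_iff] at hy
      rw [hy, one_mul, mul_one]
    · exact hsec r.1 r.1.2 (Ne.symm r.2) hpr Q hQ hQi z hz
  have hgF : g ∈ F := by
    haveI : L.Normal := Subgroup.Normal.comap inferInstance _
    refine mem_fitting_of_centralizes L (fun y hy => ?_) (Subgroup.map_subtype_le _ hgQ) hcent
    obtain ⟨s, hs⟩ := CfsgLib.isPGroup_pCore (G := G ⧸ F) q ⟨_, hy⟩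
    exact ⟨s, (QuotientGroup.eq_one_iff _).mp (congrArg Subtype.val hs)⟩
  rw [hσq, quotAut_pow]
  exact ((QuotientGroup.eq (s := F)).mpr hgF).symm

/-- The top power acts trivially modulo the Fitting subgroup if it does so on all sections. -/
theorem quot_fixed {G : Type u} [Group G] [Finite G] [Group.IsSolvable G] {p n : ℕ} [Fact p.Prime] (σ : MulAut G)
    (hσ : σ ^ p ^ (n + 1) = 1) (hfpf : ∀ g, σ g = g → g = 1)
    (hsec : ∀ q r : ℕ, q.Prime → r.Prime → p ≠ q → q ≠ r → p ≠ r → ∀ Q : Subgroup G, IsPGroup q Q →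
      (∀ x ∈ Q, σ x ∈ Q) → ∀ x ∈ Q, x⁻¹ * (σ ^ p ^ n) x ∈ Subgroup.centralizer (pCore r G : Set G)) :
    quotAut σ (fittingSubgroup G) (fitting_invariant σ) ^ p ^ n = 1 := by
  set F := fittingSubgroup G with hF
  set σq := quotAut σ F (fitting_invariant σ) with hσq
  have hq : σq ^ p ^ (n + 1) = 1 := quotAut_pow_eq_one _ _ _ hσ
  have hqf : ∀ x, σq x = x → x = 1 := quotAut_fpf _ _ _ hfpf
  have hpG : ¬ p ∣ Nat.card (G ⧸ F) := not_dvd_card σq hq hqf
  have hfixF : ∀ x ∈ fittingSubgroup (G ⧸ F), (σq ^ p ^ n) x = x := by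
    intro x hx
    have hle : fittingSubgroup (G ⧸ F) ≤ MonoidHom.eqLocus (σq ^ p ^ n).toMonoidHom (MonoidHom.id _) := by
      rw [CfsgLib.fittingSubgroup_eq_iSup_pCore]
      refine iSup_le fun r y hy => ?_
      haveI := Fact.mk r.2
      show (σq ^ p ^ n) y = y
      by_cases hpr : p = r
      · obtain ⟨a, ha⟩ := IsPGroup.iff_orderOf.mp (CfsgLib.isPGroup_pCore (G := G ⧸ F) (r : ℕ)) ⟨y, hy⟩
        rw [Subgroup.orderOf_mk] at ha
        rcases a with _ | a
        · rw [pow_zero, orderOf_eq_one_iff] at ha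
          rw [ha, map_one]
        · refine absurd (((dvd_pow_self (r : ℕ) a.succ_ne_zero).trans (ha ▸ orderOf_dvd_natCard y))) ?_
          rw [← hpr]
          exact hpG
      · exact pCore_fixed σ hσ hfpf (r : ℕ) (fun r' hr' => hsec (r : ℕ) r' r.2 hr' hpr) y hy
    exact hle hx
  have hfix : σq ^ p ^ n = 1 := by
    refine MulEquiv.ext fun x => ?_
    haveI : Group.IsSolvable (G ⧸ F) := Group.isSolvable_of_surjective (QuotientGroup.mk'_surjective F)
    set z := x⁻¹ * (σq ^ p ^ n) x with hz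
    have hzF : z ∈ fittingSubgroup (G ⧸ F) := CfsgLib.centralizer_fitting_le_of_solvable (by
      rw [Subgroup.mem_centralizer_iff]
      intro f hf
      have h1 : x * f * x⁻¹ ∈ fittingSubgroup (G ⧸ F) := Subgroup.Normal.conj_mem inferInstance f hf x
      have h2 := hfixF _ h1
      rw [map_mul, map_mul, map_inv, hfixF f hf] at h2
      rw [hz]
      generalize (σq ^ p ^ n) x = v at h2 ⊢
      calc f * (x⁻¹ * v) = x⁻¹ * (x * f * x⁻¹) * v := by group
        _ = x⁻¹ * (v * f * v⁻¹) * v := by rw [h2]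
        _ = x⁻¹ * v * f := by group)
    have hpow : ∀ k : ℕ, ((σq ^ p ^ n) ^ k) x = x * z ^ k := by
      intro k
      induction k with
      | zero => simp
      | succ k ih => rw [pow_succ', MulAut.mul_apply, ih, map_mul, map_pow, hfixF z hzF, pow_succ', ← mul_assoc, hz,
          mul_inv_cancel_left]
    have hzp : z ^ p = 1 := by
      have := hpow p
      rw [← pow_mul, ← pow_succ, hq, MulAut.one_apply, left_eq_mul] at this
      exact this
    have hz1 : z = 1 := orderOf_eq_one_iff.mp (Nat.eq_one_of_dvd_coprimes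
      ((Fact.out : p.Prime).coprime_iff_not_dvd.mpr hpG) (orderOf_dvd_of_pow_eq_one hzp) (orderOf_dvd_natCard z))
    exact (inv_mul_eq_one.mp hz1).symm
  exact hfix

/-- The theorem of Shult and Gross. -/
theorem resIter_eq_bot {p : ℕ} [Fact p.Prime] (hp2 : p ≠ 2) :
    ∀ (n : ℕ) (G : Type u) [Group G] [Finite G], Group.IsSolvable G → ∀ σ : MulAut G, σ ^ p ^ n = 1 →
      (∀ g, σ g = g → g = 1) → CfsgLib.FFLength.resIter n (⊤ : Subgroup G) = ⊥ := by
  intro n
  induction n with
  | zero =>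
    intro G _ _ _ σ hσ hfpf
    rw [pow_zero, pow_one] at hσ
    exact (Subgroup.eq_bot_iff_forall _).mpr fun g _ => hfpf g (by rw [hσ]; rfl)
  | succ n ih =>
    intro G _ _ hsol σ hσ hfpf
    haveI := hsol
    set F := fittingSubgroup G with hF
    set σq := quotAut σ F (fitting_invariant σ) with hσq
    have hq : σq ^ p ^ (n + 1) = 1 := quotAut_pow_eq_one _ _ _ hσ
    have hqf : ∀ x, σq x = x → x = 1 := quotAut_fpf _ _ _ hfpf
    have hfix : σq ^ p ^ n = 1 := quot_fixed σ hσ hfpf fun q r hq' hr' hpq hqr hpr Q hQ hQi => by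
      haveI := Fact.mk hq'
      haveI := Fact.mk hr'
      exact section_trivial hp2 hpq hpr hqr σ hσ hfpf Q hQ hQi _ (CfsgLib.isPGroup_pCore _)
        (invariant_of_characteristic σ _)
    have hIH := ih (G ⧸ F) (Group.isSolvable_of_surjective (QuotientGroup.mk'_surjective F)) σq hfix hqf
    have hle : CfsgLib.FFLength.resIter n (⊤ : Subgroup G) ≤ F := by
      have h1 := CfsgLib.FFLength.resIter_map (QuotientGroup.mk' F) (⊤ : Subgroup G) n
      rw [Subgroup.map_top_of_surjective _ (QuotientGroup.mk'_surjective F), hIH, Subgroup.map_eq_bot_iff,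
        QuotientGroup.ker_mk'] at h1
      exact h1
    rw [CfsgLib.FFLength.resIter_succ]
    refine le_bot_iff.mp ((CfsgLib.FFLength.res_mono hle).trans (le_of_eq ?_))
    exact (CfsgLib.FFLength.res_eq_bot F).mpr CfsgLib.isNilpotent_fittingSubgroup

end CfsgLib.ShultGross
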