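import Mathlib
import Cfsg.Agent.Lib.ShultGross.Core

/-!
The key lemma for automorphisms of `2`-power order: on the fixed space of the `2 ^ n`-th power of the operator a
smaller power has to be trivial.
-/

set_option autoImplicit false
set_option linter.unusedSectionVars false

namespace CfsgLib.ShultGross

open CfsgLib.FittingHeight.Grading
open scoped commutatorElement

variable {K : Type*} [Field K] [IsAlgClosed K] {W : Type*} [AddCommGroup W] [Module K W] [FiniteDimensional K W]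
variable {q n : ℕ} [hq : Fact q.Prime]

theorem commutator_invariant_pow {X : Type*} [CommGroup X] (γ : MulAut X) (χ : X →* Kˣ) {p i n : ℕ} (hi : i ≤ n)
    (h : ∀ x, χ ((γ ^ p ^ i) x) = χ x) (x : X) : χ ((γ ^ p ^ n) x) = χ x := by
  have hk : ∀ c y, χ (((γ ^ p ^ i) ^ c) y) = χ y := by
    intro c
    induction c with
    | zero => intro y; rfl
    | succ c ih => intro y; rw [pow_succ', MulAut.mul_apply, h, ih]
  rw [show p ^ n = p ^ i * p ^ (n - i) by rw [← pow_add, Nat.add_sub_cancel' hi], pow_mul, hk]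

/-- For an abelian group the top power always acts trivially. -/
theorem abelian_trivial {X : Type*} [CommGroup X] [Fintype X] (hX : ((Fintype.card X : ℕ) : K) ≠ 0) {p : ℕ}
    (hp : p.Prime) (γ : MulAut X) (φ : X →* Module.End K W) (T : Module.End K W) (hT : T ^ p ^ (n + 1) = 1)
    (hTf : ∀ w, T w = w → w = 0) (hc : ∀ x w, T (φ x w) = φ (γ x) (T w)) (x : X) :
    φ ((γ ^ p ^ n) x) = φ x := by
  classical
  haveI := enoughRoots (K := K) X (by rw [Nat.card_eq_fintype_card]; exact hX)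
  haveI := finite_dual (K := K) X
  let _ := Fintype.ofFinite (X →* Kˣ)
  refine LinearMap.ext fun w => ?_
  rw [← sum_proj hX φ w, map_sum, map_sum]
  refine Finset.sum_congr rfl fun χ _ => ?_
  by_cases hv : proj φ χ w = 0
  · rw [hv, map_zero, map_zero]
  obtain ⟨i, hi, hχi, -⟩ := exists_period hX hp φ γ T hc hT hTf (proj_mem φ χ w) hv
  rw [proj_mem φ χ w, proj_mem φ χ w, commutator_invariant_pow γ χ (by omega) hχi]

variable {Q : Type*} [Group Q] [Finite Q]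

/-- The minimal case cannot occur. -/
theorem minimal_case_two (hq2 : q ≠ 2) (hK2 : (2 : K) ≠ 0) (hqK : (q : K) ≠ 0) (hQ : IsPGroup q Q)
    (θ : MulAut Q) (hθ : θ ^ 2 ^ (n + 1) = 1) (hfpf : ∀ x, θ x = x → x = 1) (ρ : Q →* Module.End K W)
    (hρ : ∀ x, ρ x = 1 → x = 1) (T : Module.End K W) (hT : T ^ 2 ^ (n + 1) = 1) (hTf : ∀ w, T w = w → w = 0)
    (hn : 2 ≤ n) (hTa : ∀ w, (T ^ 2 ^ n) w = w → (T ^ 2 ^ (n - 1)) w = w)
    (hTb : q = 3 → ∀ w, (T ^ 2 ^ n) w = w → (T ^ 2 ^ (n - 2)) w = w)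
    (hc : ∀ x w, T (ρ x w) = ρ (θ x) (T w))
    (hinv : ∀ R : Subgroup Q, R ≠ ⊤ → (∀ u ∈ R, θ u ∈ R) → ∀ u ∈ R, (θ ^ 2 ^ n) u = u)
    (hne : θ ^ 2 ^ n ≠ 1) : False := by
  classical
  have hθ0 : (θ ^ 2 ^ n) ^ 2 = 1 := by rw [← pow_mul, ← pow_succ, hθ]
  have hcomm : ∀ u, θ ((θ ^ 2 ^ n) u) = (θ ^ 2 ^ n) (θ u) := fun u => by
    rw [← MulAut.mul_apply, ← pow_succ', pow_succ, MulAut.mul_apply]
  -- the displacements generate
  have hD : Subgroup.closure (Set.range fun u => (θ ^ 2 ^ n) u * u⁻¹) = ⊤ := by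
    by_contra h
    refine hne (MulEquiv.ext fun u => ?_)
    have hmem : ∀ x, (θ ^ 2 ^ n) x * x⁻¹ ∈ Subgroup.closure (Set.range fun u => (θ ^ 2 ^ n) u * u⁻¹) :=
      fun x => Subgroup.subset_closure ⟨x, rfl⟩
    have hfix := hinv _ h (fun x hx => (show Subgroup.closure (Set.range fun u => (θ ^ 2 ^ n) u * u⁻¹) ≤
        (Subgroup.closure (Set.range fun u => (θ ^ 2 ^ n) u * u⁻¹)).comap θ.toMonoidHom from
      (Subgroup.closure_le _).mpr (by
        rintro _ ⟨v, rfl⟩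
        simp only [SetLike.mem_coe, Subgroup.mem_comap, MulEquiv.coe_toMonoidHom, map_mul, map_inv, hcomm]
        exact hmem (θ v))) hx)
    have h1 := pow_apply_of_fixed (θ ^ 2 ^ n) (u := u) (z := (θ ^ 2 ^ n) u * u⁻¹)
      (by rw [inv_mul_cancel_right]) (hfix _ (hmem u)) 2
    rw [hθ0, MulAut.one_apply, right_eq_mul] at h1
    rw [MulAut.one_apply]
    exact mul_inv_eq_one.mp (eq_one_of_coprime_orders (p := 2) (q := q) (k := 1) hq2.symm hQ (by rwa [pow_one]))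
  haveI : Nontrivial Q := by
    by_contra h
    rw [not_nontrivial_iff_subsingleton] at h
    exact hne (MulEquiv.ext fun u => Subsingleton.elim _ _)
  haveI : Group.IsNilpotent Q := hQ.isNilpotent
  have hlt : commutator Q ≠ ⊤ := (Group.IsSolvable.commutator_lt_top_of_nontrivial Q).ne
  have hCinv : ∀ u ∈ commutator Q, θ u ∈ commutator Q := invariant_of_characteristic θ _
  have hfix : ∀ z ∈ commutator Q, (θ ^ 2 ^ n) z = z := hinv _ hlt hCinv
  have hcen : commutator Q ≤ Subgroup.center Q := by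
    intro z hz
    rw [Subgroup.mem_center_iff]
    intro g
    have hg : g ∈ Subgroup.centralizer {z} := by
      refine (Subgroup.closure_le _).mpr ?_ (hD.symm ▸ Subgroup.mem_top g)
      rintro _ ⟨u, rfl⟩
      rw [SetLike.mem_coe, Subgroup.mem_centralizer_singleton_iff]
      have h1 : u⁻¹ * z * u ∈ commutator Q := by
        have := Subgroup.Normal.conj_mem inferInstance z hz u⁻¹
        rwa [inv_inv] at this
      have h2 := hfix _ h1
      rw [map_mul, map_mul, map_inv, hfix z hz] at h2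
      show (θ ^ 2 ^ n) u * u⁻¹ * z = z * ((θ ^ 2 ^ n) u * u⁻¹)
      generalize (θ ^ 2 ^ n) u = v at h2 ⊢
      calc v * u⁻¹ * z = v * (u⁻¹ * z * u) * u⁻¹ := by group
        _ = v * (v⁻¹ * z * v) * u⁻¹ := by rw [h2]
        _ = z * (v * u⁻¹) := by group
    exact Subgroup.mem_centralizer_singleton_iff.mp hg
  obtain ⟨w0, hw0⟩ : ∃ w : W, w ≠ 0 := by
    by_contra h
    push Not at h
    obtain ⟨x, hx⟩ := exists_ne (1 : Q)
    exact hx (hρ x (LinearMap.ext fun w => by rw [h w, map_zero, map_zero]))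
  by_cases hab : commutator Q = ⊥
  · -- the abelian case
    letI : CommGroup Q := { (inferInstance : Group Q) with
      mul_comm := fun a b => commutatorElement_eq_one_iff_mul_comm.mp (Subgroup.mem_bot.mp (hab ▸
        Subgroup.commutator_mem_commutator (Subgroup.mem_top a) (Subgroup.mem_top b) : ⁅a, b⁆ ∈ (⊥ : Subgroup Q))) }
    let _ := Fintype.ofFinite Q
    have hX : ((Fintype.card Q : ℕ) : K) ≠ 0 := by
      rw [← Nat.card_eq_fintype_card]; exact natCast_card_ne_zero hqK hQ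
    refine hne (MulEquiv.ext fun u => mul_inv_eq_one.mp (hρ _ ?_))
    rw [MulAut.one_apply, map_mul, abelian_trivial hX Nat.prime_two θ ρ T hT hTf hc, ← map_mul, mul_inv_cancel,
      map_one]
  -- the derived group
  letI : CommGroup ↥(commutator Q) :=
    { (inferInstance : Group ↥(commutator Q)) with
      mul_comm := fun x y => Subtype.ext (Subgroup.mem_center_iff.mp (hcen y.2) (x : Q)) }
  let _ := Fintype.ofFinite ↥(commutator Q)
  have hZ : IsPGroup q ↥(commutator Q) := hQ.to_subgroup _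
  have hZK : ((Fintype.card ↥(commutator Q) : ℕ) : K) ≠ 0 := by
    rw [← Nat.card_eq_fintype_card]; exact natCast_card_ne_zero hqK hZ
  let φZ : ↥(commutator Q) →* Module.End K W := ρ.comp (commutator Q).subtype
  let γ : MulAut ↥(commutator Q) := restrictAut θ _ hCinv
  have hγc : ∀ x w, T (φZ x w) = φZ (γ x) (T w) := fun x w => hc x w
  obtain ⟨χ, hχ, v0, hv0, hv0n⟩ : ∃ χ : ↥(commutator Q) →* Kˣ, χ ≠ 1 ∧ ∃ v ∈ weight φZ χ, v ≠ 0 := by
    by_contra h
    push Not at h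
    refine hab ((Subgroup.eq_bot_iff_forall _).mpr fun z hz => hρ z ?_)
    exact eq_one_of_weights hZK φZ h ⟨z, hz⟩
  obtain ⟨j, hj, hχj, hTj⟩ := exists_period hZK Nat.prime_two φZ γ T hγc hT hTf hv0 hv0n
  obtain ⟨e, rfl⟩ : ∃ e, n = j + e := Nat.exists_eq_add_of_le (by omega)
  have hpe : 2 ^ (j + e + 1) = 2 ^ j * 2 ^ (e + 1) := by rw [← pow_add, add_assoc]
  have hpe' : 2 ^ (j + e) = 2 ^ j * 2 ^ e := pow_add 2 j e
  -- the commutator pairing
  have hmem : ∀ x y : Q, ⁅x, y⁆ ∈ commutator Q := fun x y =>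
    Subgroup.commutator_mem_commutator (Subgroup.mem_top _) (Subgroup.mem_top _)
  let f : Q → Q → Kˣ := fun x y => χ ⟨⁅x, y⁆, hmem x y⟩
  have hf1 : ∀ x x' y, f (x * x') y = f x y * f x' y := fun x x' y => by
    show χ _ = χ _ * χ _
    rw [← map_mul]
    congr 1
    refine Subtype.ext ?_
    show ⁅x * x', y⁆ = ⁅x, y⁆ * ⁅x', y⁆
    have h1 := Subgroup.mem_center_iff.mp (hcen (hmem x' y)) x
    calc ⁅x * x', y⁆ = x * ⁅x', y⁆ * x⁻¹ * ⁅x, y⁆ := by simp only [commutatorElement_def]; group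
      _ = ⁅x', y⁆ * ⁅x, y⁆ := by rw [h1, mul_inv_cancel_right]
      _ = _ := (Subgroup.mem_center_iff.mp (hcen (hmem x' y)) _).symm
  have hf2 : ∀ x y, f y x = (f x y)⁻¹ := fun x y => by
    show χ _ = (χ _)⁻¹
    rw [← map_inv]
    congr 1
    exact Subtype.ext (commutatorElement_inv x y).symm
  have hfxx : ∀ x, f x x = 1 := fun x => by
    show χ _ = 1
    rw [show (⟨⁅x, x⁆, hmem x x⟩ : ↥(commutator Q)) = 1 from Subtype.ext (commutatorElement_self x), map_one]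
  have hf3 : ∀ x y y', f x (y * y') = f x y * f x y' := fun x y y' => by
    rw [hf2 (y * y') x, hf1, mul_inv, ← hf2 y x, ← hf2 y' x]
  let bQ : Q →* (Q →* Kˣ) :=
    MonoidHom.mk' (fun x => MonoidHom.mk' (f x) (hf3 x)) fun x x' => MonoidHom.ext (hf1 x x')
  let R : Subgroup Q := bQ.ker
  have hR : ∀ {x}, x ∈ R ↔ ∀ y, f x y = 1 := fun {x} => by
    rw [MonoidHom.mem_ker, DFunLike.ext_iff]; rfl
  haveI : R.Normal := MonoidHom.normal_ker bQ
  have hCR : commutator Q ≤ R := fun z hz => hR.mpr fun y => by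
    show χ _ = 1
    rw [show (⟨⁅z, y⁆, hmem z y⟩ : ↥(commutator Q)) = 1 from Subtype.ext (commutatorElement_eq_one_iff_mul_comm.mpr
      (Subgroup.mem_center_iff.mp (hcen hz) y).symm), map_one]
  letI : CommGroup (Q ⧸ R) := { (inferInstance : Group (Q ⧸ R)) with
    mul_comm := fun a b => by
      obtain ⟨x, rfl⟩ := QuotientGroup.mk_surjective a
      obtain ⟨y, rfl⟩ := QuotientGroup.mk_surjective b
      refine (QuotientGroup.eq).mpr ?_
      rw [show (x * y)⁻¹ * (y * x) = ⁅y⁻¹, x⁻¹⁆ by simp only [commutatorElement_def]; group]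
      exact hCR (hmem _ _) }
  let _ := Fintype.ofFinite (Q ⧸ R)
  have hAq : IsPGroup q (Q ⧸ R) := hQ.to_quotient R
  have hAK : ((Fintype.card (Q ⧸ R) : ℕ) : K) ≠ 0 := by
    rw [← Nat.card_eq_fintype_card]; exact natCast_card_ne_zero hqK hAq
  let g : Q →* (Q ⧸ R →* Kˣ) := MonoidHom.mk'
    (fun x => QuotientGroup.lift R (bQ x) fun r hr => by
      show f x r = 1
      rw [hf2 r x, hR.mp hr x, inv_one])
    fun x x' => by
      refine MonoidHom.ext fun a => ?_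
      obtain ⟨y, rfl⟩ := QuotientGroup.mk_surjective a
      exact hf1 x x' y
  let bA : Q ⧸ R →* (Q ⧸ R →* Kˣ) := QuotientGroup.lift R g fun r hr => by
    refine MonoidHom.ext fun a => ?_
    obtain ⟨y, rfl⟩ := QuotientGroup.mk_surjective a
    exact hR.mp hr y
  have hbA : ∀ x y : Q, bA (x : Q ⧸ R) (y : Q ⧸ R) = f x y := fun x y => rfl
  have hbinj : Function.Injective bA := by
    rw [injective_iff_map_eq_one]
    intro a ha
    obtain ⟨x, rfl⟩ := QuotientGroup.mk_surjective a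
    refine (QuotientGroup.eq_one_iff x).mpr (hR.mpr fun y => ?_)
    rw [← hbA, ha]; rfl
  haveI := enoughRoots (K := K) (Q ⧸ R) (natCast_card_ne_zero hqK hAq)
  -- the automorphism of order `2 ^ (e + 1)`
  have hγk : ∀ (k : ℕ) (z : ↥(commutator Q)), ((γ ^ k) z : Q) = (θ ^ k) z := fun k z => restrictAut_pow θ _ hCinv k z
  have hfτ : ∀ x y, f ((θ ^ 2 ^ j) x) ((θ ^ 2 ^ j) y) = f x y := fun x y => by
    show χ _ = χ _
    rw [← hχj ⟨⁅x, y⁆, hmem x y⟩]
    congr 1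
    refine Subtype.ext ?_
    rw [hγk]
    exact (map_commutatorElement (θ ^ 2 ^ j) x y).symm
  have hRinv : ∀ x ∈ R, (θ ^ 2 ^ j) x ∈ R := fun x hx => hR.mpr fun y => by
    obtain ⟨y, rfl⟩ := (θ ^ 2 ^ j).surjective y
    rw [hfτ]
    exact hR.mp hx y
  let τA : MulAut (Q ⧸ R) := quotAut (θ ^ 2 ^ j) R hRinv
  have hτA : τA ^ 2 ^ (e + 1) = 1 := quotAut_pow_eq_one _ _ _ (by rw [← pow_mul, ← hpe]; exact hθ)
  have hτAf : ∀ a, (τA ^ 2 ^ e) a = a → a = 1 :=
    fpf_of_generate (θ ^ 2 ^ (j + e)) hD (QuotientGroup.mk' R) (QuotientGroup.mk'_surjective R) _ fun u => by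
      show _ = (τA ^ 2 ^ e) (u : Q ⧸ R)
      rw [quotAut_pow, ← pow_mul, ← hpe']; rfl
  have hbτ : ∀ a a', bA (τA a) (τA a') = bA a a' := fun a a' => by
    obtain ⟨x, rfl⟩ := QuotientGroup.mk_surjective a
    obtain ⟨y, rfl⟩ := QuotientGroup.mk_surjective a'
    exact hfτ x y
  have hR' : R ≠ ⊤ := fun h => by
    refine hχ (MonoidHom.ext fun z => ?_)
    have hle : commutator Q ≤ χ.ker.map (commutator Q).subtype :=
      (commutator_def Q).le.trans
        (Subgroup.commutator_le.mpr fun x _ y _ => ⟨⟨⁅x, y⁆, hmem x y⟩, hR.mp (h ▸ Subgroup.mem_top x) y, rfl⟩)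
    obtain ⟨z', hz', hzz⟩ := hle z.2
    rw [← Subtype.ext hzz]
    exact hz'
  have hcz : ∀ (x : Q) (z : ↥(commutator Q)), ρ z * ρ x = ρ x * ρ z := fun x z => by
    rw [← map_mul, ← map_mul, Subgroup.mem_center_iff.mp (hcen z.2) x]
  let U : Submodule K W := weight φZ χ
  have hU : ∀ x, ∀ w ∈ U, ρ x w ∈ U := fun x w hw z => by
    show (ρ z * ρ x) w = _
    rw [hcz x z, Module.End.mul_apply]
    exact (congrArg (ρ x) (hw z)).trans (map_smul _ _ _)
  have hperiod : ∀ {B : Type _} [CommGroup B] (γ' : MulAut B) (χ' : B →* Kˣ) (k : ℕ),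
      (∀ x, χ' ((γ' ^ k) x) = χ' x) → χ'.comp (γ' ^ k).symm.toMonoidHom = χ' := by
    intro B _ γ' χ' k h
    refine MonoidHom.ext fun x => ?_
    conv_rhs => rw [← (γ' ^ k).apply_symm_apply x, h]
    rfl
  have hTU : ∀ w ∈ U, (T ^ 2 ^ j) w ∈ U := fun w hw => by
    have := weight_move φZ γ T hγc hw (2 ^ j)
    rwa [hperiod γ χ _ hχj] at this
  let ρ1 := restrictRep ρ U hU
  let T1 : Module.End K U := (T ^ 2 ^ j).restrict hTU
  have hc1 : ∀ x (u : U), T1 (ρ1 x u) = ρ1 ((θ ^ 2 ^ j) x) (T1 u) := fun x u =>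
    Subtype.ext (compat_pow ρ θ T hc (2 ^ j) x u)
  have hT1 : T1 ^ 2 ^ (e + 1) = 1 := LinearMap.ext fun u => Subtype.ext (by
    rw [restrict_pow, ← pow_mul, ← hpe, hT]; rfl)
  have hT1f : ∀ u, T1 u = u → u = 0 := fun u hu => Subtype.ext (hTj u u.2 (congrArg Subtype.val hu))
  have hcomm1 : ∀ x y (u : U), ρ1 x (ρ1 y u) = (f x y : K) • ρ1 y (ρ1 x u) := fun x y u => Subtype.ext (by
    show ρ x (ρ y u) = (f x y : K) • ρ y (ρ x u)
    rw [← Module.End.mul_apply, ← map_mul, show x * y = ⁅x, y⁆ * (y * x) by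
      simp only [commutatorElement_def]; group, map_mul, Module.End.mul_apply, map_mul, Module.End.mul_apply]
    exact hU y _ (hU x _ u.2) ⟨⁅x, y⁆, hmem x y⟩)
  have hRK : ∀ {B : Subgroup Q}, IsPGroup q B := fun {B} => hQ.to_subgroup B
  let hRc : ∀ r r' : R, (ρ1.comp R.subtype).toHomUnits r * (ρ1.comp R.subtype).toHomUnits r' =
      (ρ1.comp R.subtype).toHomUnits r' * (ρ1.comp R.subtype).toHomUnits r := fun r r' => Units.ext
    (LinearMap.ext fun u => by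
      simp only [Units.val_mul, MonoidHom.coe_toHomUnits, Module.End.mul_apply, MonoidHom.comp_apply,
        Subgroup.coe_subtype]
      rw [hcomm1, hR.mp r.2, Units.val_one, one_smul])
  let φR : R ⧸ commutator R →* Module.End K U := (Units.coeHom _).comp
    (QuotientGroup.lift (commutator R) (ρ1.comp R.subtype).toHomUnits (by
      rw [commutator_def, Subgroup.commutator_le]
      intro r _ r' _
      rw [MonoidHom.mem_ker, map_commutatorElement, commutatorElement_eq_one_iff_mul_comm]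
      exact hRc r r'))
  have hφR : ∀ (r : R) u, φR (r : R ⧸ commutator R) u = ρ1 r u := fun r u => rfl
  letI : CommGroup (R ⧸ commutator R) := { (inferInstance : Group (R ⧸ commutator R)) with
    mul_comm := fun a b => mul_comm (G := Abelianization R) a b }
  let _ := Fintype.ofFinite (R ⧸ commutator R)
  have hRK' : ((Fintype.card (R ⧸ commutator R) : ℕ) : K) ≠ 0 := by
    rw [← Nat.card_eq_fintype_card]; exact natCast_card_ne_zero hqK (hRK.to_quotient _)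
  let γR : MulAut (R ⧸ commutator R) := quotAut (restrictAut (θ ^ 2 ^ j) R hRinv) (commutator R)
    (invariant_of_characteristic _ _)
  have hγR : ∀ a u, T1 (φR a u) = φR (γR a) (T1 u) := fun a u => by
    obtain ⟨r, rfl⟩ := QuotientGroup.mk_surjective a
    exact hc1 r u
  obtain ⟨lam, u0, hu0, hu0n⟩ := exists_weight hRK' φR (w := (⟨v0, hv0⟩ : U))
    fun h => hv0n (congrArg Subtype.val h)
  obtain ⟨i, hi, hlam, hTi⟩ := exists_period hRK' Nat.prime_two φR γR T1 hγR hT1 hT1f hu0 hu0n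
  obtain ⟨e', rfl⟩ : ∃ e', e = i + e' := Nat.exists_eq_add_of_le (by omega)
  have hpi : 2 ^ (i + e' + 1) = 2 ^ i * 2 ^ (e' + 1) := by rw [← pow_add, add_assoc]
  let U2 : Submodule K U := weight φR lam
  have hU2 : ∀ x, ∀ u ∈ U2, ρ1 x u ∈ U2 := fun x u hu a => by
    obtain ⟨r, rfl⟩ := QuotientGroup.mk_surjective a
    rw [hφR, hcomm1, hR.mp r.2, Units.val_one, one_smul, ← hφR, hu, map_smul]
  have hTU2 : ∀ u ∈ U2, (T1 ^ 2 ^ i) u ∈ U2 := fun u hu => by
    have := weight_move φR γR T1 hγR hu (2 ^ i)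
    rwa [hperiod γR lam _ hlam] at this
  let ρ2 := restrictRep ρ1 U2 hU2
  let T2 : Module.End K U2 := (T1 ^ 2 ^ i).restrict hTU2
  haveI : Nontrivial U2 := ⟨⟨⟨u0, hu0⟩, 0, fun h => hu0n (congrArg Subtype.val h)⟩⟩
  have hsc : ∀ x ∈ (QuotientGroup.mk' R).ker, ∃ c : K, ∀ u : U2, ρ2 x u = c • u := fun x hx =>
    ⟨lam ((⟨x, (QuotientGroup.eq_one_iff x).mp hx⟩ : R) : R ⧸ commutator R),
      fun u => Subtype.ext (u.2 ((⟨x, (QuotientGroup.eq_one_iff x).mp hx⟩ : R) : R ⧸ commutator R))⟩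
  have hcomm2 : ∀ x y (u : U2), ρ2 x (ρ2 y u) = (f x y : K) • ρ2 y (ρ2 x u) := fun x y u =>
    Subtype.ext (hcomm1 x y u)
  have hcomm2' : ∀ x y (u : U2), ρ2 x (ρ2 y u) =
      (bA⁻¹ (QuotientGroup.mk' R y) (QuotientGroup.mk' R x) : K) • ρ2 y (ρ2 x u) := fun x y u => by
    show _ = (((bA (y : Q ⧸ R))⁻¹ (x : Q ⧸ R) : Kˣ) : K) • _
    rw [MonoidHom.inv_apply, hbA, hf2 x y, inv_inv]
    exact hcomm2 x y u
  have hbk : ∀ (k : ℕ) a a', bA⁻¹ ((τA ^ k) a) ((τA ^ k) a') = bA⁻¹ a a' := by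
    intro k
    induction k with
    | zero => intro a a'; rfl
    | succ k ih =>
      intro a a'
      rw [pow_succ', MulAut.mul_apply, MulAut.mul_apply, ← ih a a']
      show (bA _ _)⁻¹ = (bA _ _)⁻¹
      rw [hbτ]
  have hbinj' : Function.Injective (bA⁻¹ : Q ⧸ R →* (Q ⧸ R →* Kˣ)) := fun a a' h => hbinj (inv_injective h)
  have hN1 : 1 < Nat.card (Q ⧸ R) := by
    rw [← Subgroup.index_eq_card]
    exact Subgroup.one_lt_index_of_ne_top hR'
  have hT2 : T2 ^ 2 ^ (e' + 1) = 1 :=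
    LinearMap.ext fun u => Subtype.ext (by rw [restrict_pow, ← pow_mul, ← hpi, hT1]; rfl)
  have hT2f : ∀ u : U2, T2 u = u → u = 0 := fun u hu => Subtype.ext (hTi u u.2 (congrArg Subtype.val hu))
  let θ2 : MulAut Q := (θ ^ 2 ^ j) ^ 2 ^ i
  have hc2 : ∀ x (u : U2), T2 (ρ2 x u) = ρ2 (θ2 x) (T2 u) := fun x u =>
    Subtype.ext (compat_pow ρ1 (θ ^ 2 ^ j) T1 hc1 (2 ^ i) x u)
  let τ2 : MulAut (Q ⧸ R) := τA ^ 2 ^ i
  have hτ2c : ∀ x, QuotientGroup.mk' R (θ2 x) = τ2 (QuotientGroup.mk' R x) := fun x =>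
    (quotAut_pow (θ ^ 2 ^ j) R hRinv (2 ^ i) x).symm
  have hτ2 : τ2 ^ 2 ^ (e' + 1) = 1 := by rw [← pow_mul, ← hpi, hτA]
  have hτ2f : ∀ a, (τ2 ^ 2 ^ e') a = a → a = 1 := fun a ha => by
    rw [← pow_mul, ← pow_add] at ha
    exact hτAf a ha
  have hK2' : ((2 : ℕ) : K) ≠ 0 := by exact_mod_cast hK2
  have hN : Nat.card (Q ⧸ R) ≤ (2 ^ (e' + 1) - 1) ^ 2 :=
    counting (QuotientGroup.mk' R) (QuotientGroup.mk'_surjective R) ρ2 bA⁻¹ hbinj' hAK hsc hcomm2' Nat.prime_two hK2'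
      θ2 T2 (e := e') hT2 hT2f hc2 τ2 hτ2c hτ2 hτ2f (hbk _)
  obtain ⟨e'', rfl⟩ : ∃ e'', e' = e'' + 1 := ⟨e' - 1, by
    rcases Nat.eq_zero_or_pos e' with h | h
    · have h9 : Nat.card (Q ⧸ R) ≤ 1 := hN.trans (by simp [h])
      omega
    · omega⟩
  -- the operator of order `4` without the eigenvalue `-1`
  have hsq : ∀ u : U2, ((((T2 ^ 2 ^ e'') ^ 2) u : U2) : U) = (T1 ^ 2 ^ (i + (e'' + 1))) u := fun u => by
    rw [← pow_mul, restrict_pow, ← pow_mul]
    congr 2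
    rw [← pow_succ, ← pow_add]
  have hT1k : ∀ k (u : U), ((((T1 ^ 2 ^ k) u : U)) : W) = (T ^ 2 ^ (j + k)) u := fun k u => by
    rw [restrict_pow, ← pow_mul, ← pow_add]
  have hfix0 : ∀ u : U2, ((T2 ^ 2 ^ e'') ^ 2) u = u → (T2 ^ 2 ^ e'') u = u := fun u hu => by
    refine Subtype.ext (Subtype.ext ?_)
    have h1 : (T ^ 2 ^ (j + (i + (e'' + 1)))) ((u : U) : W) = ((u : U) : W) := by
      rw [← hT1k, ← hsq, hu]
    have h2 := hTa _ h1
    rw [restrict_pow, ← pow_mul, ← pow_add, hT1k, show j + (i + e'') = j + (i + (e'' + 1)) - 1 by omega, h2]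
  let S : Module.End K U2 := -(T2 ^ 2 ^ e'')
  have hSsq : S ^ 2 ^ (1 + 1) = 1 := by
    have h1 : S ^ 2 = (T2 ^ 2 ^ e'') ^ 2 := LinearMap.ext fun u => by
      rw [pow_two, pow_two, Module.End.mul_apply, Module.End.mul_apply]
      show -((T2 ^ 2 ^ e'') (-((T2 ^ 2 ^ e'') u))) = _
      rw [map_neg, neg_neg]
    rw [show (2 : ℕ) ^ (1 + 1) = 2 * 2 by norm_num, pow_mul, h1, ← pow_mul, ← pow_mul]
    convert hT2 using 2
    ring
  have hSf : ∀ u, S u = u → u = 0 := fun u hu => by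
    have h1 : (T2 ^ 2 ^ e'') u = -u := neg_eq_iff_eq_neg.mp (show -((T2 ^ 2 ^ e'') u) = u from hu)
    have h2 := hfix0 u (by rw [pow_two, Module.End.mul_apply, h1, map_neg, h1, neg_neg])
    rw [h1, neg_eq_iff_add_eq_zero, ← two_smul K u] at h2
    exact (smul_eq_zero.mp h2).resolve_left hK2
  have hN9 := counting (QuotientGroup.mk' R) (QuotientGroup.mk'_surjective R) ρ2 bA⁻¹ hbinj' hAK hsc hcomm2'
    Nat.prime_two hK2' (θ2 ^ 2 ^ e'') S (e := 1) hSsq hSf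
    (fun x u => by
      show -((T2 ^ 2 ^ e'') (ρ2 x u)) = ρ2 _ (-((T2 ^ 2 ^ e'') u))
      rw [compat_pow ρ2 θ2 T2 hc2, map_neg])
    (τ2 ^ 2 ^ e'') (fun x => by
      show ((θ2 ^ 2 ^ e'') x : Q ⧸ R) = ((τA ^ 2 ^ i) ^ 2 ^ e'') (x : Q ⧸ R)
      rw [← pow_mul τA, quotAut_pow, pow_mul])
    (by rw [← pow_mul, ← pow_add, ← add_assoc, hτ2])
    (fun a ha => hτ2f a (by rwa [← pow_mul, pow_one, ← pow_succ] at ha))
    (fun a a' => by rw [← pow_mul τA]; exact hbk _ a a')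
  -- hence `q = 3`
  obtain ⟨L, hL⟩ := exists_sq bA hbinj (fun a => by
    obtain ⟨x, rfl⟩ := QuotientGroup.mk_surjective a
    exact hfxx x)
  obtain ⟨d, hd⟩ := IsPGroup.iff_card.mp (hAq.to_subgroup L)
  rw [hd] at hL
  obtain ⟨Rep, hRep, -⟩ := exists_reps τA Nat.prime_two hτA hτAf
  have hqd : q ^ d ≤ 3 := (Nat.pow_le_pow_iff_left two_ne_zero).mp (by rw [← hL]; exact hN9)
  have hd0 : d ≠ 0 := fun h => by rw [h, pow_zero] at hL; rw [hL] at hN1; omega
  have hq3 : q = 3 := by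
    have h2 := hq.out.two_le
    have := Nat.le_self_pow hd0 q
    omega
  have hqd3 : q ^ d = 3 := le_antisymm hqd (hq3 ▸ Nat.le_self_pow hd0 q)
  have hi2 : j + (i + (e'' + 1)) - 2 ≤ j + i := by
    rw [hL, hqd3] at hRep
    have h8 : 2 ^ (i + (e'' + 1) + 1) ∣ 8 := ⟨Rep.card - 1, by rw [Nat.mul_sub_one]; omega⟩
    have := (Nat.pow_dvd_pow_iff_le_right (by norm_num)).mp (show 2 ^ (i + (e'' + 1) + 1) ∣ 2 ^ 3 from h8)
    omega
  -- so the top power inverts, hence is scalar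
  have hzero : ∀ u : U2, ((T2 ^ 2 ^ e'') ^ 2) u = u → u = 0 := fun u hu => hT2f u (Subtype.ext (Subtype.ext (by
    have h1 : (T ^ 2 ^ (j + (i + (e'' + 1)))) ((u : U) : W) = ((u : U) : W) := by
      rw [← hT1k, ← hsq, hu]
    show ((((T1 ^ 2 ^ i) u : U)) : W) = _
    rw [hT1k]
    have h2 := hTb hq3 _ h1
    obtain ⟨k, hk⟩ := Nat.exists_eq_add_of_le hi2
    rw [hk, pow_add, pow_mul, Module.End.coe_pow]
    exact Function.iterate_fixed h2 _)))
  have hneg : ∀ u : U2, ((T2 ^ 2 ^ e'') ^ 2) u = -u := fun u => by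
    have h : (T2 ^ 2 ^ e'') ^ 2 * (T2 ^ 2 ^ e'') ^ 2 = 1 := by
      rw [← pow_add, ← pow_mul]
      convert hT2 using 2
      rw [pow_succ 2 (e'' + 1), pow_succ 2 e'']
      ring
    have h1 : ((T2 ^ 2 ^ e'') ^ 2) (((T2 ^ 2 ^ e'') ^ 2) u + u) = ((T2 ^ 2 ^ e'') ^ 2) u + u := by
      rw [map_add, ← Module.End.mul_apply, h, Module.End.one_apply, add_comm]
    exact eq_neg_of_add_eq_zero_left (hzero _ h1)
  have hsame : ∀ x (u : U2), ρ2 (((θ2 ^ 2 ^ e'') ^ 2) x) u = ρ2 x u := fun x u => by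
    have h1 := compat_pow ρ2 (θ2 ^ 2 ^ e'') (T2 ^ 2 ^ e'') (fun x u => compat_pow ρ2 θ2 T2 hc2 _ x u) 2 x u
    rw [hneg, hneg, map_neg, neg_inj] at h1
    exact h1.symm
  refine hR' (eq_top_iff.mpr fun x _ => ?_)
  rw [← QuotientGroup.eq_one_iff]
  refine hτ2f _ (hbinj ?_)
  have hexp : τ2 ^ 2 ^ (e'' + 1) = (τ2 ^ 2 ^ e'') ^ 2 := by
    rw [pow_succ 2 e'']
    exact pow_mul τ2 _ 2
  refine MonoidHom.ext fun a => ?_
  obtain ⟨y, rfl⟩ := QuotientGroup.mk_surjective a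
  have hτk : ∀ (k l : ℕ) (x : Q), ((τ2 ^ k) ^ l) (x : Q ⧸ R) = ((((θ2 ^ k) ^ l) x : Q) : Q ⧸ R) := fun k l x => by
    show (((τA ^ 2 ^ i) ^ k) ^ l) (x : Q ⧸ R) = _
    rw [← pow_mul τA, ← pow_mul τA, quotAut_pow, pow_mul, pow_mul]
  rw [hexp, hτk, hbA, hbA]
  have h1 := hcomm2 (((θ2 ^ 2 ^ e'') ^ 2) x) y ⟨u0, hu0⟩
  rw [hsame, hsame, hcomm2 x y] at h1
  refine (Units.ext (smul_left_injective K (m := ρ2 y (ρ2 x ⟨u0, hu0⟩)) (fun h => hu0n ?_) h1)).symm
  have hinjρ : ∀ z, Function.Injective (ρ2 z) := fun z a b hab => by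
    have := congrArg (ρ2 z⁻¹) hab
    rwa [← Module.End.mul_apply, ← Module.End.mul_apply, ← map_mul, inv_mul_cancel, map_one] at this
  have h2 : (⟨u0, hu0⟩ : U2) = 0 := hinjρ x (hinjρ y (by rw [map_zero, map_zero]; exact h))
  exact congrArg Subtype.val h2

/-- The key lemma for `p = 2`. -/
theorem key_two (hq2 : q ≠ 2) (hK2 : (2 : K) ≠ 0) (hqK : (q : K) ≠ 0) (T : Module.End K W)
    (hT : T ^ 2 ^ (n + 1) = 1) (hTf : ∀ w, T w = w → w = 0) (hn : 2 ≤ n)
    (hTa : ∀ w, (T ^ 2 ^ n) w = w → (T ^ 2 ^ (n - 1)) w = w)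
    (hTb : q = 3 → ∀ w, (T ^ 2 ^ n) w = w → (T ^ 2 ^ (n - 2)) w = w) :
    ∀ (N : ℕ) (Q : Type*) [Group Q] [Finite Q], Nat.card Q = N → IsPGroup q Q → ∀ (θ : MulAut Q),
      θ ^ 2 ^ (n + 1) = 1 → (∀ x, θ x = x → x = 1) → ∀ ρ : Q →* Module.End K W,
      (∀ x w, T (ρ x w) = ρ (θ x) (T w)) → ∀ x, ρ ((θ ^ 2 ^ n) x) = ρ x := by
  intro N
  induction N using Nat.strong_induction_on with
  | _ N ih =>
    intro Q _ _ hN hQ θ hθ hfpf ρ hc
    have hker : ∀ x ∈ ρ.ker, θ x ∈ ρ.ker := fun x hx => by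
      rw [MonoidHom.mem_ker] at hx ⊢
      obtain ⟨P, hP⟩ : ∃ P, 2 ^ (n + 1) = P + 1 := ⟨2 ^ (n + 1) - 1, by have := pow_pos Nat.prime_two.pos (n + 1); omega⟩
      refine LinearMap.ext fun w => ?_
      have hsurj : T ((T ^ P) w) = w := by rw [← Module.End.mul_apply, ← pow_succ', ← hP, hT]; rfl
      have h1 := hc x ((T ^ P) w)
      rw [hx, Module.End.one_apply, hsurj] at h1
      exact h1.symm
    by_cases hinj : ρ.ker = ⊥
    swap
    · intro x
      have hlt : Nat.card (Q ⧸ ρ.ker) < N := by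
        rw [← hN, Subgroup.card_eq_card_quotient_mul_card_subgroup ρ.ker]
        exact lt_mul_of_one_lt_right Nat.card_pos ((Subgroup.one_lt_card_iff_ne_bot _).mpr hinj)
      have h1 := ih _ hlt (Q ⧸ ρ.ker) rfl (hQ.to_quotient _) (quotAut θ ρ.ker hker) (quotAut_pow_eq_one _ _ _ hθ)
        (quotAut_fpf θ ρ.ker hker hfpf) (QuotientGroup.lift ρ.ker ρ le_rfl) (fun a w => by
          obtain ⟨y, rfl⟩ := QuotientGroup.mk_surjective a
          exact hc y w) (x : Q ⧸ ρ.ker)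
      rw [quotAut_pow] at h1
      exact h1
    have hρ : ∀ x, ρ x = 1 → x = 1 := fun x hx => Subgroup.mem_bot.mp (hinj ▸ hx)
    intro x
    by_contra hx
    refine minimal_case_two hq2 hK2 hqK hQ θ hθ hfpf ρ hρ T hT hTf hn hTa hTb hc (fun R hR hRinv u hu => ?_)
      fun h => hx (by rw [h]; rfl)
    have hlt : Nat.card R < N := hN ▸ lt_of_le_of_ne R.card_le_card_group fun h => hR (R.eq_top_of_card_eq h)
    have h1 := ih _ hlt R rfl (hQ.to_subgroup R) (restrictAut θ R hRinv) (restrictAut_pow_eq_one _ _ _ hθ)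
      (fun y hy => restrictAut_fpf θ R hRinv hfpf y hy) (ρ.comp R.subtype) (fun y w => hc y w) ⟨u, hu⟩
    rw [MonoidHom.comp_apply, MonoidHom.comp_apply, Subgroup.coe_subtype, restrictAut_pow] at h1
    refine mul_inv_eq_one.mp (hρ _ ?_)
    rw [map_mul, h1, ← map_mul, mul_inv_cancel, map_one]

end CfsgLib.ShultGross
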