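import Mathlib
import Cfsg.Agent.Lib.Elementary
import Cfsg.Agent.Lib.ShultGross.Module
import Cfsg.Agent.Lib.ShultGross.TwoKey

/-!
Two levels of `2`-power automorphisms: a `q`-group acting compatibly on an `r`-group which has enough
representations in which the automorphism has no fixed vector.
-/

set_option autoImplicit false
set_option linter.unusedSectionVars false

namespace CfsgLib.ShultGross

open CfsgLib.FittingHeight.Grading
open scoped commutatorElement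

universe u v

/-- The representations in which the automorphism has no fixed vector separate the points. -/
def Separated {R : Type u} [Group R] (r : ℕ) (θ : MulAut R) (P : ℕ) : Prop :=
  ∀ u : R, u ≠ 1 → ∃ (K : Type) (_ : Field K) (_ : IsAlgClosed K) (W : Type u) (_ : AddCommGroup W)
    (_ : Module K W) (_ : FiniteDimensional K W) (ρ : R →* Module.End K W) (T : Module.End K W),
    (r : K) ≠ 0 ∧ (2 : K) ≠ 0 ∧ T ^ P = 1 ∧ (∀ w, T w = w → w = 0) ∧ (∀ x w, T (ρ x w) = ρ (θ x) (T w)) ∧ ρ u ≠ 1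

theorem arith_two {r d j m c : ℕ} (hr : r.Prime) (hr2 : r ≠ 2) (hd : 0 < d)
    (hle : (r ^ d) ^ 2 ≤ (2 ^ m - 1) ^ 2) (hc0 : 0 < c) (hc : c ≤ d * 2 ^ j) (hX : 2 ^ (m + j) ∣ r ^ c - 1) :
    d = 1 ∧ r + 1 = 2 ^ m ∧ 2 ≤ m ∧ (r ≠ 3 → 3 ≤ m) := by
  haveI : Fact (Nat.Prime 2) := ⟨Nat.prime_two⟩
  have hr3 : 3 ≤ r := by have := hr.two_le; omega
  have hodd : Odd r := hr.odd_of_ne_two hr2
  have hr1 : ¬ 2 ∣ r := fun h => (Nat.not_even_iff_odd.mpr hodd) (even_iff_two_dvd.mpr h)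
  have hle' : r ^ d ≤ 2 ^ m - 1 := (Nat.pow_le_pow_iff_left two_ne_zero).mp hle
  have hrd : r ≤ r ^ d := Nat.le_self_pow (by omega) r
  have hrc : 1 < r ^ c := Nat.one_lt_pow (by omega) (by omega)
  have h2c : 2 ^ (m + j + 1) ∣ r ^ (2 * c) - 1 := by
    have hfac : r ^ (2 * c) - 1 = (r ^ c + 1) * (r ^ c - 1) := by
      rw [← Nat.sq_sub_sq, one_pow, ← pow_mul, mul_comm]
    rw [hfac, pow_succ, mul_comm]
    exact Nat.mul_dvd_mul (even_iff_two_dvd.mp (hodd.pow.add_one)) hX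
  have hlte := padicValNat.pow_two_sub_one (x := r) (by omega) hr1 (n := 2 * c) (by omega) (even_two_mul c)
  have h1 : m + j + 1 ≤ padicValNat 2 (r ^ (2 * c) - 1) := (padicValNat_dvd_iff_le (by
    have : 1 < r ^ (2 * c) := Nat.one_lt_pow (by omega) (by omega)
    omega)).mp h2c
  rw [padicValNat.mul two_ne_zero (by omega), padicValNat_self] at hlte
  have hone : ∀ x, x ≠ 0 → 2 ∣ x → ¬ 4 ∣ x → padicValNat 2 x = 1 := fun x hx h2 h4 => by
    have ha : 1 ≤ padicValNat 2 x := (padicValNat_dvd_iff_le hx).mp (by simpa using h2)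
    have hb : ¬ 2 ≤ padicValNat 2 x := fun h => h4 (by simpa using (padicValNat_dvd_iff_le (p := 2) hx).mpr h)
    omega
  have hp2 : ∀ x, x ≠ 0 → 2 ^ padicValNat 2 x ≤ x := fun x hx => Nat.le_of_dvd (Nat.pos_of_ne_zero hx) pow_padicValNat_dvd
  have hS : 2 ^ (padicValNat 2 (r + 1) + padicValNat 2 (r - 1)) ≤ 2 * (r + 1) := by
    obtain ⟨t, ht⟩ := hodd
    rw [pow_add]
    rcases Nat.even_or_odd t with ⟨s, hs⟩ | ⟨s, hs⟩
    · rw [hone (r + 1) (by omega) (by omega) (by omega), pow_one]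
      exact Nat.mul_le_mul_left _ ((hp2 _ (by omega)).trans (by omega))
    · rw [hone (r - 1) (by omega) (by omega) (by omega), pow_one, mul_comm]
      exact Nat.mul_le_mul_left _ (hp2 _ (by omega))
  have h2 : 2 ^ (m + j + 1) ≤ 2 * (r + 1) * (d * 2 ^ j) := by
    refine (Nat.pow_le_pow_right two_pos (show m + j + 1 ≤
      (padicValNat 2 (r + 1) + padicValNat 2 (r - 1)) + padicValNat 2 c by omega)).trans ?_
    rw [pow_add 2 (padicValNat 2 (r + 1) + padicValNat 2 (r - 1))]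
    exact Nat.mul_le_mul hS ((hp2 c (by omega)).trans hc)
  have h3 : 2 ^ m ≤ (r + 1) * d := by
    refine Nat.le_of_mul_le_mul_right ?_ (show 0 < 2 * 2 ^ j by positivity)
    calc 2 ^ m * (2 * 2 ^ j) = 2 ^ (m + j + 1) := by ring
      _ ≤ 2 * (r + 1) * (d * 2 ^ j) := h2
      _ = (r + 1) * d * (2 * 2 ^ j) := by ring
  have hd1 : d = 1 := by
    by_contra hne
    have h4 : ∀ k, 2 ≤ k → (r + 1) * k ≤ r ^ k := by
      intro k hk
      induction k, hk using Nat.le_induction with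
      | base => nlinarith
      | succ k hk ih =>
        rw [pow_succ]
        have h5 : r + 1 ≤ (r + 1) * k := Nat.le_mul_of_pos_right _ (by omega)
        nlinarith [Nat.mul_le_mul_right r ih, h5]
    have := h4 d (by omega)
    omega
  subst hd1
  rw [pow_one] at hle'
  have h6 : r + 1 = 2 ^ m := by omega
  have hm : 2 ≤ m := by
    by_contra h
    have : 2 ^ m ≤ 2 ^ 1 := Nat.pow_le_pow_right two_pos (by omega)
    omega
  refine ⟨rfl, h6, hm, fun h => ?_⟩
  by_contra h'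
  rw [show m = 2 by omega] at h6
  omega

variable {r q n : ℕ} [hr : Fact r.Prime] [hq : Fact q.Prime]

theorem odd_sqrt {B : Type*} [Group B] (hr2 : r ≠ 2) (hB : IsPGroup r B) (b : B) :
    ∃ k : ℕ, (b ^ 2) ^ k = b := by
  obtain ⟨a, ha⟩ := IsPGroup.iff_orderOf.mp hB b
  obtain ⟨k, hk⟩ : Odd (orderOf b) := ha ▸ (hr.out.odd_of_ne_two hr2).pow
  exact ⟨k + 1, by rw [← pow_mul, show 2 * (k + 1) = orderOf b + 1 by omega, pow_succ, pow_orderOf_eq_one, one_mul]⟩

theorem odd_sq_eq_one {B : Type*} [Group B] (hr2 : r ≠ 2) (hB : IsPGroup r B) {b : B} (hb : b ^ 2 = 1) : b = 1 := by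
  obtain ⟨k, hk⟩ := odd_sqrt hr2 hB b
  rw [← hk, hb, one_pow]

set_option maxHeartbeats 2000000 in
theorem two_level (hr2 : r ≠ 2) (hq2 : q ≠ 2) (hrq : r ≠ q) (hn : 2 ≤ n) :
    ∀ (N : ℕ) (R : Type u) [Group R] [Finite R], Nat.card R = N → IsPGroup r R → ∀ θ : MulAut R,
      θ ^ 2 ^ (n + 1) = 1 → (∀ y, θ y = y → y = 1) → Separated r θ (2 ^ (n + 1)) → ∀ (Q : Type v) [Group Q] [Finite Q], IsPGroup q Q →
      ∀ θQ : MulAut Q, θQ ^ 2 ^ (n + 1) = 1 → (∀ x, θQ x = x → x = 1) → ∀ act : Q →* MulAut R,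
      (∀ x y, θ (act x y) = act (θQ x) (θ y)) → ∀ x y, act ((θQ ^ 2 ^ n) x) y = act x y := by
  intro N
  induction N using Nat.strong_induction_on with
  | _ N ih =>
  intro R _ _ hN hR θ hθ hfpf hsep Q _ _ hQ θQ hθQ hfQ act hcomp
  classical
  have hθk : ∀ k x y, (θ ^ k) (act x y) = act ((θQ ^ k) x) ((θ ^ k) y) := by
    intro k
    induction k with
    | zero => intro x y; rfl
    | succ k ihk =>
      intro x y
      rw [pow_succ', pow_succ', MulAut.mul_apply, MulAut.mul_apply, MulAut.mul_apply, ihk, hcomp]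
  have hθQ0 : ∀ x, (θQ ^ 2 ^ n) ((θQ ^ 2 ^ n) x) = x := fun x => by
    rw [← MulAut.mul_apply, ← pow_add, ← two_mul, ← pow_succ', hθQ]; rfl
  set Q0 := Subgroup.closure (Set.range fun x => x⁻¹ * (θQ ^ 2 ^ n) x) with hQ0
  have hgenQ0 : ∀ x, x⁻¹ * (θQ ^ 2 ^ n) x ∈ Q0 := fun x => Subgroup.subset_closure ⟨x, rfl⟩
  have hQ0i : ∀ x ∈ Q0, θQ x ∈ Q0 := fun x hx => (show Q0 ≤ Q0.comap θQ.toMonoidHom from
    (Subgroup.closure_le _).mpr (by
      rintro _ ⟨v, rfl⟩
      simp only [SetLike.mem_coe, Subgroup.mem_comap, MulEquiv.coe_toMonoidHom, map_mul, map_inv]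
      rw [← MulAut.mul_apply, ← pow_succ', pow_succ, MulAut.mul_apply]
      exact hgenQ0 (θQ v))) hx
  have hgen : ∀ St : Subgroup Q, (∀ a ∈ Q0, a⁻¹ * (θQ ^ 2 ^ n) a ∈ St) → Q0 ≤ St := by
    intro St h
    refine (Subgroup.closure_le _).mpr ?_
    rintro _ ⟨x, rfl⟩
    rw [SetLike.mem_coe]
    have h1 := h _ (hgenQ0 x)
    rw [map_mul, map_inv, hθQ0, mul_inv_rev, inv_inv] at h1
    obtain ⟨k, hk⟩ := odd_sqrt hq2 hQ (x⁻¹ * (θQ ^ 2 ^ n) x)
    show x⁻¹ * (θQ ^ 2 ^ n) x ∈ St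
    rw [← hk]
    refine pow_mem ?_ k
    have h2 := inv_mem h1
    simp only [mul_inv_rev, inv_inv] at h2
    rw [pow_two]
    convert h2 using 1
  have hdone : (∀ a ∈ Q0, ∀ y, act a y = y) → ∀ x y, act ((θQ ^ 2 ^ n) x) y = act x y := fun h x y => by
    rw [show (θQ ^ 2 ^ n) x = x * (x⁻¹ * (θQ ^ 2 ^ n) x) by rw [mul_inv_cancel_left], map_mul, MulAut.mul_apply,
      h _ (hgenQ0 x)]
  have hkill : ∀ S : Subgroup R, S ≠ ⊤ → (∀ y ∈ S, θ y ∈ S) → (∀ a ∈ Q0, ∀ y ∈ S, act a y ∈ S) →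
      ∀ a ∈ Q0, ∀ y ∈ S, act a y = y := by
    intro S hS hSθ hSQ
    let actS : Q0 →* MulAut S :=
      { toFun := fun a => restrictAut (act a) S (hSQ a a.2)
        map_one' := MulEquiv.ext fun y => Subtype.ext (by rw [restrictAut_apply, Subgroup.coe_one, map_one]; rfl)
        map_mul' := fun a b => MulEquiv.ext fun y => Subtype.ext (by
          rw [restrictAut_apply, Subgroup.coe_mul, map_mul]; rfl) }
    have hlt : Nat.card S < N := hN ▸ lt_of_le_of_ne S.card_le_card_group fun h => hS (S.eq_top_of_card_eq h)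
    have h1 := ih _ hlt S rfl (hR.to_subgroup S) (restrictAut θ S hSθ) (restrictAut_pow_eq_one θ S hSθ hθ)
      (fun y hy => restrictAut_fpf θ S hSθ hfpf y hy)
      (fun u hu => by
        obtain ⟨K, _, _, W, _, _, _, ρ, T, h⟩ := hsep (u : R) fun h => hu (Subtype.ext h)
        exact ⟨K, inferInstance, inferInstance, W, inferInstance, inferInstance, inferInstance, ρ.comp S.subtype, T,
          h.1, h.2.1, h.2.2.1, h.2.2.2.1, fun x w => h.2.2.2.2.1 x w, h.2.2.2.2.2⟩)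
      Q0 (hQ.to_subgroup Q0) (restrictAut θQ Q0 hQ0i) (restrictAut_pow_eq_one θQ Q0 hQ0i hθQ)
      (fun x hx => restrictAut_fpf θQ Q0 hQ0i hfQ x hx) actS (fun a y => Subtype.ext (hcomp a y))
    let St : Subgroup Q :=
      { carrier := {a | ∀ y ∈ S, act a y = y}
        one_mem' := fun y _ => by rw [map_one]; rfl
        mul_mem' := fun {a b} ha hb y hy => by rw [map_mul, MulAut.mul_apply, hb y hy, ha y hy]
        inv_mem' := fun {a} ha y hy => by
          conv_lhs => rw [← ha y hy]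
          rw [← MulAut.mul_apply, ← map_mul, inv_mul_cancel, map_one]; rfl }
    refine fun a ha => hgen St (fun a ha y hy => ?_) ha
    have h2 : act (((restrictAut θQ Q0 hQ0i ^ 2 ^ n) ⟨a, ha⟩ : Q0) : Q) y = act a y :=
      congrArg Subtype.val (h1 ⟨a, ha⟩ ⟨y, hy⟩)
    rw [restrictAut_pow] at h2
    rw [map_mul, MulAut.mul_apply, h2, ← MulAut.mul_apply, ← map_mul, inv_mul_cancel, map_one]; rfl
  have hstab : ∀ M : Subgroup R, (∀ a ∈ Q0, ∀ y ∈ M, act a y = y) → (∀ a ∈ Q0, ∀ y, act a y * y⁻¹ ∈ M) →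
      ∀ a ∈ Q0, ∀ y, act a y = y := by
    intro M hM hmod a ha y
    obtain ⟨s, hs⟩ := IsPGroup.iff_orderOf.mp hQ a
    have h1 := pow_apply_of_fixed (act a) (u := y) (z := act a y * y⁻¹) (by rw [inv_mul_cancel_right])
      (hM a ha _ (hmod a ha y)) (orderOf a)
    rw [← map_pow, pow_orderOf_eq_one, map_one, MulAut.one_apply, right_eq_mul, hs] at h1
    exact mul_inv_eq_one.mp (eq_one_of_coprime_orders (p := q) (q := r) hrq.symm hR h1)
  -- the displacements of `Q0` generate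
  set R0 := Subgroup.closure {c : R | ∃ a ∈ Q0, ∃ y, act a y * y⁻¹ = c} with hR0
  have hgenR0 : ∀ a ∈ Q0, ∀ y, act a y * y⁻¹ ∈ R0 := fun a ha y => Subgroup.subset_closure ⟨a, ha, y, rfl⟩
  by_cases hR0top : R0 = ⊤
  swap
  · refine hdone (hstab R0 (hkill R0 hR0top ?_ ?_) hgenR0)
    · refine fun y hy => (show R0 ≤ R0.comap θ.toMonoidHom from (Subgroup.closure_le _).mpr ?_) hy
      rintro _ ⟨a, ha, z, rfl⟩
      simp only [SetLike.mem_coe, Subgroup.mem_comap, MulEquiv.coe_toMonoidHom, map_mul, map_inv, hcomp]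
      exact hgenR0 _ (hQ0i a ha) _
    · intro b hb y hy
      refine (show R0 ≤ R0.comap (act b).toMonoidHom from (Subgroup.closure_le _).mpr ?_) hy
      rintro _ ⟨a, ha, z, rfl⟩
      simp only [SetLike.mem_coe, Subgroup.mem_comap, MulEquiv.coe_toMonoidHom, map_mul, map_inv]
      have h1 := hgenR0 (b * a * b⁻¹) (mul_mem (mul_mem hb ha) (inv_mem hb)) (act b z)
      rwa [← MulAut.mul_apply, ← map_mul, inv_mul_cancel_right, map_mul, MulAut.mul_apply] at h1
  by_cases hsub : Subsingleton R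
  · exact fun x y => Subsingleton.elim _ _
  haveI : Nontrivial R := not_subsingleton_iff_nontrivial.mp hsub
  haveI : Group.IsNilpotent R := hR.isNilpotent
  have hCtop : commutator R ≠ ⊤ := (Group.IsSolvable.commutator_lt_top_of_nontrivial R).ne
  have hCi : ∀ y ∈ commutator R, θ y ∈ commutator R := invariant_of_characteristic θ _
  have hCfix : ∀ a ∈ Q0, ∀ y ∈ commutator R, act a y = y :=
    hkill _ hCtop hCi fun a _ => invariant_of_characteristic (act a) _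
  have hcen : commutator R ≤ Subgroup.center R := by
    intro z hz
    rw [Subgroup.mem_center_iff]
    intro g
    have hg : g ∈ Subgroup.centralizer {z} := by
      refine (Subgroup.closure_le _).mpr ?_ (hR0top.symm ▸ Subgroup.mem_top g : g ∈ R0)
      rintro _ ⟨a, ha, y, rfl⟩
      rw [SetLike.mem_coe, Subgroup.mem_centralizer_singleton_iff]
      have h1 : y⁻¹ * z * y ∈ commutator R := by
        have := Subgroup.Normal.conj_mem inferInstance z hz y⁻¹
        rwa [inv_inv] at this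
      have h2 := hCfix a ha _ h1
      rw [map_mul, map_mul, map_inv, hCfix a ha z hz] at h2
      generalize act a y = v at h2 ⊢
      calc v * y⁻¹ * z = v * (y⁻¹ * z * y) * y⁻¹ := by group
        _ = v * (v⁻¹ * z * v) * y⁻¹ := by rw [h2]
        _ = z * (v * y⁻¹) := by group
    exact Subgroup.mem_centralizer_singleton_iff.mp hg
  by_cases hab : commutator R = ⊥
  · -- an abelian group is fixed by the top power
    letI : CommGroup R := { (inferInstance : Group R) with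
      mul_comm := fun a b => commutatorElement_eq_one_iff_mul_comm.mp (Subgroup.mem_bot.mp (hab ▸
        Subgroup.commutator_mem_commutator (Subgroup.mem_top a) (Subgroup.mem_top b) : ⁅a, b⁆ ∈ (⊥ : Subgroup R))) }
    let _ := Fintype.ofFinite R
    have htriv : ∀ y, (θ ^ 2 ^ n) y = y := fun y => by
      by_contra hy
      obtain ⟨K, _, _, W, _, _, _, ρ, T, hrK, h2K, hT, hTf, hc, hu⟩ :=
        hsep ((θ ^ 2 ^ n) y * y⁻¹) fun h => hy (mul_inv_eq_one.mp h)
      have hX : ((Fintype.card R : ℕ) : K) ≠ 0 := by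
        rw [← Nat.card_eq_fintype_card]; exact natCast_card_ne_zero hrK hR
      exact hu (by rw [map_mul, abelian_trivial hX Nat.prime_two θ ρ T hT hTf hc, ← map_mul, mul_inv_cancel, map_one])
    intro x y
    have h1 := hθk (2 ^ n) x y
    rw [htriv, htriv] at h1
    exact h1.symm
  -- a nontrivial weight of the derived group
  obtain ⟨u0, hu0C, hu01⟩ : ∃ u ∈ commutator R, u ≠ 1 := by
    by_contra h
    push Not at h
    exact hab ((Subgroup.eq_bot_iff_forall _).mpr h)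
  obtain ⟨K, _, _, W, _, _, _, ρ, T, hrK, h2K, hT, hTf, hc, hu⟩ := hsep u0 hu01
  letI : CommGroup ↥(commutator R) :=
    { (inferInstance : Group ↥(commutator R)) with
      mul_comm := fun x y => Subtype.ext (Subgroup.mem_center_iff.mp (hcen y.2) (x : R)) }
  let _ := Fintype.ofFinite ↥(commutator R)
  have hZ : IsPGroup r ↥(commutator R) := hR.to_subgroup _
  have hZK : ((Fintype.card ↥(commutator R) : ℕ) : K) ≠ 0 := by
    rw [← Nat.card_eq_fintype_card]; exact natCast_card_ne_zero hrK hZ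
  let φZ : ↥(commutator R) →* Module.End K W := ρ.comp (commutator R).subtype
  let γ : MulAut ↥(commutator R) := restrictAut θ _ hCi
  have hγc : ∀ x w, T (φZ x w) = φZ (γ x) (T w) := fun x w => hc x w
  obtain ⟨χ, hχ, v0, hv0, hv0n⟩ : ∃ χ : ↥(commutator R) →* Kˣ, χ ≠ 1 ∧ ∃ v ∈ weight φZ χ, v ≠ 0 := by
    by_contra h
    push Not at h
    exact hu (eq_one_of_weights hZK φZ h ⟨u0, hu0C⟩)
  obtain ⟨j, hj, hχj, hTj⟩ := exists_period hZK Nat.prime_two φZ γ T hγc hT hTf hv0 hv0n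
  obtain ⟨e, rfl⟩ : ∃ e, n = j + e := Nat.exists_eq_add_of_le (by omega)
  have hpe : 2 ^ (j + e + 1) = 2 ^ j * 2 ^ (e + 1) := by rw [← pow_add, add_assoc]
  have hpe' : 2 ^ (j + e) = 2 ^ j * 2 ^ e := pow_add 2 j e
  -- the commutator pairing
  have hmem : ∀ x y : R, ⁅x, y⁆ ∈ commutator R := fun x y =>
    Subgroup.commutator_mem_commutator (Subgroup.mem_top _) (Subgroup.mem_top _)
  let f : R → R → Kˣ := fun x y => χ ⟨⁅x, y⁆, hmem x y⟩
  have hf1 : ∀ x x' y, f (x * x') y = f x y * f x' y := fun x x' y => by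
    show χ _ = χ _ * χ _
    rw [← map_mul]
    congr 1
    refine Subtype.ext ?_
    show ⁅x * x', y⁆ = ⁅x, y⁆ * ⁅x', y⁆
    have h1 := Subgroup.mem_center_iff.mp (hcen (hmem x' y)) x
    calc ⁅x * x', y⁆ = x * ⁅x', y⁆ * x⁻¹ * ⁅x, y⁆ := by simp only [commutatorElement_def]; group
      _ = ⁅x', y⁆ * ⁅x, y⁆ := by rw [h1, mul_inv_cancel_right]
      _ = _ := (Subgroup.mem_center_iff.mp (hcen (hmem x' y)) _).symm
  have hf2 : ∀ x y, f y x = (f x y)⁻¹ := fun x y => by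
    show χ _ = (χ _)⁻¹
    rw [← map_inv]
    congr 1
    exact Subtype.ext (commutatorElement_inv x y).symm
  have hfxx : ∀ x, f x x = 1 := fun x => by
    show χ _ = 1
    rw [show (⟨⁅x, x⁆, hmem x x⟩ : ↥(commutator R)) = 1 from Subtype.ext (commutatorElement_self x), map_one]
  have hf3 : ∀ x y y', f x (y * y') = f x y * f x y' := fun x y y' => by
    rw [hf2 (y * y') x, hf1, mul_inv, ← hf2 y x, ← hf2 y' x]
  let bR : R →* (R →* Kˣ) :=
    MonoidHom.mk' (fun x => MonoidHom.mk' (f x) (hf3 x)) fun x x' => MonoidHom.ext (hf1 x x')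
  let Rad : Subgroup R := bR.ker
  have hRad : ∀ {x}, x ∈ Rad ↔ ∀ y, f x y = 1 := fun {x} => by
    rw [MonoidHom.mem_ker, DFunLike.ext_iff]; rfl
  haveI : Rad.Normal := MonoidHom.normal_ker bR
  have hCR : commutator R ≤ Rad := fun z hz => hRad.mpr fun y => by
    show χ _ = 1
    rw [show (⟨⁅z, y⁆, hmem z y⟩ : ↥(commutator R)) = 1 from Subtype.ext (commutatorElement_eq_one_iff_mul_comm.mpr
      (Subgroup.mem_center_iff.mp (hcen hz) y).symm), map_one]
  letI : CommGroup (R ⧸ Rad) := { (inferInstance : Group (R ⧸ Rad)) with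
    mul_comm := fun a b => by
      obtain ⟨x, rfl⟩ := QuotientGroup.mk_surjective a
      obtain ⟨y, rfl⟩ := QuotientGroup.mk_surjective b
      refine (QuotientGroup.eq).mpr ?_
      rw [show (x * y)⁻¹ * (y * x) = ⁅y⁻¹, x⁻¹⁆ by simp only [commutatorElement_def]; group]
      exact hCR (hmem _ _) }
  let _ := Fintype.ofFinite (R ⧸ Rad)
  have hAr : IsPGroup r (R ⧸ Rad) := hR.to_quotient Rad
  have hAK : ((Fintype.card (R ⧸ Rad) : ℕ) : K) ≠ 0 := by
    rw [← Nat.card_eq_fintype_card]; exact natCast_card_ne_zero hrK hAr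
  let g : R →* (R ⧸ Rad →* Kˣ) := MonoidHom.mk'
    (fun x => QuotientGroup.lift Rad (bR x) fun z hz => by
      show f x z = 1
      rw [hf2 z x, hRad.mp hz x, inv_one])
    fun x x' => by
      refine MonoidHom.ext fun a => ?_
      obtain ⟨y, rfl⟩ := QuotientGroup.mk_surjective a
      exact hf1 x x' y
  let bA : R ⧸ Rad →* (R ⧸ Rad →* Kˣ) := QuotientGroup.lift Rad g fun z hz => by
    refine MonoidHom.ext fun a => ?_
    obtain ⟨y, rfl⟩ := QuotientGroup.mk_surjective a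
    exact hRad.mp hz y
  have hbA : ∀ x y : R, bA (x : R ⧸ Rad) (y : R ⧸ Rad) = f x y := fun x y => rfl
  have hbinj : Function.Injective bA := by
    rw [injective_iff_map_eq_one]
    intro a ha
    obtain ⟨x, rfl⟩ := QuotientGroup.mk_surjective a
    refine (QuotientGroup.eq_one_iff x).mpr (hRad.mpr fun y => ?_)
    rw [← hbA, ha]; rfl
  have hγk : ∀ (k : ℕ) (z : ↥(commutator R)), ((γ ^ k) z : R) = (θ ^ k) z := fun k z => restrictAut_pow θ _ hCi k z
  have hfτ : ∀ x y, f ((θ ^ 2 ^ j) x) ((θ ^ 2 ^ j) y) = f x y := fun x y => by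
    show χ _ = χ _
    rw [← hχj ⟨⁅x, y⁆, hmem x y⟩]
    congr 1
    refine Subtype.ext ?_
    rw [hγk]
    exact (map_commutatorElement (θ ^ 2 ^ j) x y).symm
  have hRadinv : ∀ x ∈ Rad, (θ ^ 2 ^ j) x ∈ Rad := fun x hx => hRad.mpr fun y => by
    obtain ⟨y, rfl⟩ := (θ ^ 2 ^ j).surjective y
    rw [hfτ]
    exact hRad.mp hx y
  have hRadQ : ∀ a ∈ Q0, ∀ x ∈ Rad, act a x ∈ Rad := fun a ha x hx => hRad.mpr fun y => by
    obtain ⟨y, rfl⟩ := (act a).surjective y
    show χ _ = 1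
    rw [← hRad.mp hx y]
    show χ _ = χ _
    congr 1
    refine Subtype.ext ?_
    show ⁅act a x, act a y⁆ = ⁅x, y⁆
    rw [← map_commutatorElement, hCfix a ha _ (hmem x y)]
  let τA : MulAut (R ⧸ Rad) := quotAut (θ ^ 2 ^ j) Rad hRadinv
  have hτA : τA ^ 2 ^ (e + 1) = 1 := quotAut_pow_eq_one _ _ _ (by rw [← pow_mul, ← hpe]; exact hθ)
  have hbτ : ∀ a a', bA (τA a) (τA a') = bA a a' := fun a a' => by
    obtain ⟨x, rfl⟩ := QuotientGroup.mk_surjective a
    obtain ⟨y, rfl⟩ := QuotientGroup.mk_surjective a'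
    exact hfτ x y
  have hbτk : ∀ (k : ℕ) a a', bA ((τA ^ k) a) ((τA ^ k) a') = bA a a' := by
    intro k
    induction k with
    | zero => intro a a'; rfl
    | succ k ih => intro a a'; rw [pow_succ', MulAut.mul_apply, MulAut.mul_apply, hbτ, ih]
  have hRad' : Rad ≠ ⊤ := fun h => by
    refine hχ (MonoidHom.ext fun z => ?_)
    have hle : commutator R ≤ χ.ker.map (commutator R).subtype :=
      (commutator_def R).le.trans
        (Subgroup.commutator_le.mpr fun x _ y _ => ⟨⟨⁅x, y⁆, hmem x y⟩, hRad.mp (h ▸ Subgroup.mem_top x) y, rfl⟩)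
    obtain ⟨z', hz', hzz⟩ := hle z.2
    rw [← Subtype.ext hzz]
    exact hz'
  -- the involution induced on the quotient
  let ι0 : MulAut (R ⧸ Rad) := τA ^ 2 ^ e
  have hι0 : ∀ x : R, ι0 (x : R ⧸ Rad) = (((θ ^ 2 ^ (j + e)) x : R) : R ⧸ Rad) := fun x => by
    show (τA ^ 2 ^ e) _ = _
    rw [quotAut_pow, ← pow_mul, ← hpe']
  have hιι : ∀ a, ι0 (ι0 a) = a := fun a => by
    show (τA ^ 2 ^ e) ((τA ^ 2 ^ e) a) = a
    rw [← MulAut.mul_apply, ← pow_add, ← two_mul, ← pow_succ', hτA]; rfl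
  have hτι : ∀ k a, (τA ^ k) (ι0 a) = ι0 ((τA ^ k) a) := fun k a => by
    show (τA ^ k) ((τA ^ 2 ^ e) a) = (τA ^ 2 ^ e) ((τA ^ k) a)
    rw [← MulAut.mul_apply, ← MulAut.mul_apply, ← pow_add, ← pow_add, add_comm]
  let δ : R ⧸ Rad →* R ⧸ Rad :=
    MonoidHom.mk' (fun a => ι0 a * a⁻¹) fun a b => by rw [map_mul, mul_inv, mul_mul_mul_comm]
  have hA0 : ∀ {a}, a ∈ δ.ker ↔ ι0 a = a := fun {a} => by
    rw [MonoidHom.mem_ker]
    exact mul_inv_eq_one
  have hneg : ∀ a ∈ δ.range, ι0 a = a⁻¹ := by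
    rintro _ ⟨c, rfl⟩
    show ι0 (ι0 c * c⁻¹) = (ι0 c * c⁻¹)⁻¹
    rw [map_mul, map_inv, hιι, mul_inv_rev, inv_inv]
  have hA1inv : ∀ k, ∀ a ∈ δ.range, (τA ^ k) a ∈ δ.range := by
    rintro k _ ⟨c, rfl⟩
    exact ⟨(τA ^ k) c, by
      show ι0 ((τA ^ k) c) * ((τA ^ k) c)⁻¹ = (τA ^ k) (ι0 c * c⁻¹)
      rw [map_mul, map_inv, hτι]⟩
  have hA0inv : ∀ k, ∀ a ∈ δ.ker, (τA ^ k) a ∈ δ.ker := fun k a ha => hA0.mpr (by rw [← hτι, hA0.mp ha])
  have hdec : ∀ a, ∃ u ∈ δ.ker, ∃ v ∈ δ.range, a = u * v := fun a => by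
    obtain ⟨k, hk⟩ := odd_sqrt hr2 hAr a
    refine ⟨a ^ k * ι0 (a ^ k), hA0.mpr (by rw [map_mul, hιι, mul_comm]), (ι0 (a ^ k) * (a ^ k)⁻¹)⁻¹,
      inv_mem ⟨a ^ k, rfl⟩, ?_⟩
    rw [mul_inv_rev, inv_inv, mul_assoc, mul_left_comm (ι0 (a ^ k)), mul_inv_cancel, mul_one, ← mul_pow, ← pow_two, hk]
  let b1 : δ.range →* (δ.range →* Kˣ) :=
    (MonoidHom.domRestrictHom δ.range Kˣ).comp (bA.comp δ.range.subtype)
  have hb1 : ∀ a a' : δ.range, b1 a a' = bA a a' := fun a a' => rfl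
  have hb1inj : Function.Injective b1 := by
    rw [injective_iff_map_eq_one]
    intro a ha
    refine Subtype.ext (hbinj (a₁ := (a : R ⧸ Rad)) (a₂ := 1) ?_)
    rw [map_one]
    refine MonoidHom.ext fun z => ?_
    obtain ⟨u, hu, v, hv, rfl⟩ := hdec z
    obtain ⟨c, hc⟩ := a.2
    have h1 : bA (a : R ⧸ Rad) v = 1 := DFunLike.congr_fun ha ⟨v, hv⟩
    have h2 : bA (ι0 c) u = bA c u := by
      conv_lhs => rw [← hA0.mp hu]
      exact hbτk (2 ^ e) c u
    rw [map_mul, h1, mul_one, ← hc]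
    show bA (ι0 c * c⁻¹) u = 1
    rw [map_mul, MonoidHom.mul_apply, map_inv, MonoidHom.inv_apply, h2, mul_inv_cancel]
  haveI := enoughRoots (K := K) δ.range (natCast_card_ne_zero hrK (hAr.to_subgroup δ.range))
  obtain ⟨L, hL⟩ := exists_sq b1 hb1inj (fun a => by
    rw [hb1]
    obtain ⟨x, hx⟩ := QuotientGroup.mk_surjective (a : R ⧸ Rad)
    rw [← hx]
    exact hfxx x)
  obtain ⟨d, hd⟩ := IsPGroup.iff_card.mp ((hAr.to_subgroup δ.range).to_subgroup L)
  rw [hd] at hL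
  -- the kernel of all conjugate pairings
  let Φ : R →* (Fin (2 ^ j) → R ⧸ Rad) :=
    MonoidHom.pi fun k => (QuotientGroup.mk' Rad).comp (θ ^ (k : ℕ)).toMonoidHom
  have hmem' : ∀ x, x ∈ Φ.ker ↔ ∀ k < 2 ^ j, (θ ^ k) x ∈ Rad := by
    intro x
    rw [MonoidHom.mem_ker]
    constructor
    · intro h k hk
      exact (QuotientGroup.eq_one_iff _).mp (congrFun h ⟨k, hk⟩)
    · exact fun h => funext fun k => (QuotientGroup.eq_one_iff _).mpr (h k k.2)
  set K0 := Φ.ker with hK0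
  haveI : K0.Normal := MonoidHom.normal_ker Φ
  have hK0θ : ∀ x ∈ K0, θ x ∈ K0 := fun x hx => (hmem' _).mpr fun k hk => by
    rw [← MulAut.mul_apply, ← pow_succ]
    rcases Nat.lt_or_ge (k + 1) (2 ^ j) with h | h
    · exact (hmem' x).mp hx _ h
    · rw [show k + 1 = 2 ^ j by omega]
      exact hRadinv x (by simpa using (hmem' x).mp hx 0 (Nat.two_pow_pos j))
  have hQ0k : ∀ (k : ℕ), ∀ a ∈ Q0, (θQ ^ k) a ∈ Q0 := by
    intro k
    induction k with
    | zero => exact fun a ha => ha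
    | succ k ih => intro a ha; rw [pow_succ', MulAut.mul_apply]; exact hQ0i _ (ih a ha)
  have hK0Q : ∀ a ∈ Q0, ∀ x ∈ K0, act a x ∈ K0 := fun a ha x hx => (hmem' _).mpr fun k hk => by
    rw [hθk]
    exact hRadQ _ (hQ0k k a ha) _ ((hmem' x).mp hx k hk)
  have hK0top : K0 ≠ ⊤ := fun h => hRad' (eq_top_iff.mpr fun x _ => by
    simpa using (hmem' x).mp (h ▸ Subgroup.mem_top x) 0 (Nat.two_pow_pos j))
  have hCK0 : commutator R ≤ K0 := fun z hz => (hmem' z).mpr fun k _ =>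
    hCR (invariant_of_characteristic (θ ^ k) (commutator R) z hz)
  -- enlarged by the Frattini subgroup
  set K1 := K0 ⊔ frattini R with hK1
  haveI : K1.Normal := Subgroup.sup_normal _ _
  have hK1top : K1 ≠ ⊤ := fun h => hK0top (frattini_nongenerating h)
  have hK1θ : ∀ x ∈ K1, θ x ∈ K1 := fun x hx => (sup_le
    (fun y hy => Subgroup.mem_sup_left (hK0θ y hy))
    (fun y hy => Subgroup.mem_sup_right (invariant_of_characteristic θ (frattini R) y hy)) :
      K1 ≤ K1.comap θ.toMonoidHom) hx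
  have hK1Q : ∀ a ∈ Q0, ∀ x ∈ K1, act a x ∈ K1 := fun a ha x hx => (sup_le
    (fun y hy => Subgroup.mem_sup_left (hK0Q a ha y hy))
    (fun y hy => Subgroup.mem_sup_right (invariant_of_characteristic (act a) (frattini R) y hy)) :
      K1 ≤ K1.comap (act a).toMonoidHom) hx
  refine hdone (hstab K1 (hkill K1 hK1top hK1θ hK1Q) ?_)
  let θ1 : MulAut (R ⧸ K1) := quotAut θ K1 hK1θ
  let act1 : Q0 →* MulAut (R ⧸ K1) :=
    { toFun := fun a => quotAut (act a) K1 (hK1Q a a.2)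
      map_one' := MulEquiv.ext fun v => by
        obtain ⟨y, rfl⟩ := QuotientGroup.mk_surjective v
        rw [quotAut_mk, Subgroup.coe_one, map_one]; rfl
      map_mul' := fun a b => MulEquiv.ext fun v => by
        obtain ⟨y, rfl⟩ := QuotientGroup.mk_surjective v
        rw [MulAut.mul_apply, quotAut_mk, quotAut_mk, quotAut_mk, Subgroup.coe_mul, map_mul]; rfl }
  let θQ0 : MulAut Q0 := restrictAut θQ Q0 hQ0i
  suffices hq : ∀ a : Q0, act1 ((θQ0 ^ 2 ^ (j + e)) a) = act1 a by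
    intro a ha y
    obtain ⟨a', ha', rfl⟩ := hgen (act1.ker.map Q0.subtype) (fun b hb =>
      ⟨⟨b, hb⟩⁻¹ * (θQ0 ^ 2 ^ (j + e)) ⟨b, hb⟩, by
        rw [SetLike.mem_coe, MonoidHom.mem_ker, map_mul, hq, ← map_mul, inv_mul_cancel, map_one],
        by rw [map_mul, map_inv, Subgroup.coe_subtype, restrictAut_pow]⟩) ha
    rw [← QuotientGroup.eq_one_iff, QuotientGroup.mk_mul, QuotientGroup.mk_inv, mul_inv_eq_one]
    exact DFunLike.congr_fun (MonoidHom.mem_ker.mp ha') (y : R ⧸ K1)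
  have hcomp1 : ∀ a v, θ1 (act1 a v) = act1 (θQ0 a) (θ1 v) := fun a v => by
    obtain ⟨y, rfl⟩ := QuotientGroup.mk_surjective v
    show ((θ (act a y) : R) : R ⧸ K1) = ((act (θQ a) (θ y) : R) : R ⧸ K1)
    rw [hcomp]
  by_cases htriv : ∀ y, (θ ^ 2 ^ (j + e)) y * y⁻¹ ∈ K0
  · intro a
    refine MulEquiv.ext fun v => ?_
    obtain ⟨y, rfl⟩ := QuotientGroup.mk_surjective v
    have h1 : ∀ z, (((θ ^ 2 ^ (j + e)) z : R) : R ⧸ K1) = (z : R ⧸ K1) := fun z => by
      rw [← mul_inv_eq_one, ← QuotientGroup.mk_inv, ← QuotientGroup.mk_mul, QuotientGroup.eq_one_iff]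
      exact Subgroup.mem_sup_left (htriv z)
    show ((act (((θQ0 ^ 2 ^ (j + e)) a : Q0) : Q) y : R) : R ⧸ K1) = ((act a y : R) : R ⧸ K1)
    rw [restrictAut_pow]
    have h3 : ((act ((θQ ^ 2 ^ (j + e)) a) y : R) : R ⧸ K1) =
        ((act ((θQ ^ 2 ^ (j + e)) a) ((θ ^ 2 ^ (j + e)) y) : R) : R ⧸ K1) := by
      refine QuotientGroup.eq.mpr ?_
      rw [← map_inv, ← map_mul]
      exact hK1Q _ (hQ0k _ _ a.2) _ (QuotientGroup.eq.mp (h1 y).symm)
    rw [h3, ← hθk, h1]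
  -- the displacements on the quotient by the kernel
  letI : CommGroup (R ⧸ K0) := { (inferInstance : Group (R ⧸ K0)) with
    mul_comm := fun a b => by
      obtain ⟨x, rfl⟩ := QuotientGroup.mk_surjective a
      obtain ⟨y, rfl⟩ := QuotientGroup.mk_surjective b
      refine (QuotientGroup.eq).mpr ?_
      rw [show (x * y)⁻¹ * (y * x) = ⁅y⁻¹, x⁻¹⁆ by simp only [commutatorElement_def]; group]
      exact hCK0 (hmem _ _) }
  let θU : MulAut (R ⧸ K0) := quotAut θ K0 hK0θ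
  have hθU : θU ^ 2 ^ (j + e + 1) = 1 := quotAut_pow_eq_one _ _ _ hθ
  have hUU : ∀ u, (θU ^ 2 ^ (j + e)) ((θU ^ 2 ^ (j + e)) u) = u := fun u => by
    rw [← MulAut.mul_apply, ← pow_add, ← two_mul, ← pow_succ', hθU]; rfl
  let δU : R ⧸ K0 →* R ⧸ K0 :=
    MonoidHom.mk' (fun a => (θU ^ 2 ^ (j + e)) a * a⁻¹) fun a b => by rw [map_mul, mul_inv, mul_mul_mul_comm]
  let ΦU : R ⧸ K0 →* (Fin (2 ^ j) → R ⧸ Rad) := QuotientGroup.lift K0 Φ le_rfl
  have hΦU : Function.Injective ΦU := by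
    rw [injective_iff_map_eq_one]
    intro u hu
    obtain ⟨y, rfl⟩ := QuotientGroup.mk_surjective u
    exact (QuotientGroup.eq_one_iff y).mpr hu
  have hΦι : ∀ u k, ΦU ((θU ^ 2 ^ (j + e)) u) k = ι0 (ΦU u k) := fun u k => by
    obtain ⟨y, rfl⟩ := QuotientGroup.mk_surjective u
    rw [quotAut_pow]
    show (((θ ^ (k : ℕ)) ((θ ^ 2 ^ (j + e)) y) : R) : R ⧸ Rad) = ι0 (((θ ^ (k : ℕ)) y : R) : R ⧸ Rad)
    rw [hι0, ← MulAut.mul_apply, ← MulAut.mul_apply, ← pow_add, ← pow_add, add_comm]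
  have hU1 : δU.range ≠ ⊥ := fun h => htriv fun y => by
    have h1 : δU (y : R ⧸ K0) ∈ δU.range := ⟨_, rfl⟩
    rw [h, Subgroup.mem_bot] at h1
    rw [← QuotientGroup.eq_one_iff, QuotientGroup.mk_mul, QuotientGroup.mk_inv, ← quotAut_pow θ K0 hK0θ]
    exact h1
  have hU1inv : ∀ u ∈ δU.range, θU u ∈ δU.range := by
    rintro _ ⟨c, rfl⟩
    refine ⟨θU c, ?_⟩
    show (θU ^ 2 ^ (j + e)) (θU c) * (θU c)⁻¹ = θU ((θU ^ 2 ^ (j + e)) c * c⁻¹)
    rw [map_mul, map_inv, ← MulAut.mul_apply, ← pow_succ, pow_succ', MulAut.mul_apply]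
  let γ1 : MulAut δU.range := restrictAut θU δU.range hU1inv
  have hUr : IsPGroup r δU.range := (hR.to_quotient K0).to_subgroup _
  obtain ⟨RepU, hRepU, -⟩ := exists_reps γ1 Nat.prime_two (restrictAut_pow_eq_one θU _ hU1inv hθU) (fun a ha => by
    obtain ⟨c, hc⟩ := a.2
    have h1 : (θU ^ 2 ^ (j + e)) (a : R ⧸ K0) = (a : R ⧸ K0) := by
      rw [← restrictAut_pow θU _ hU1inv, ha]
    refine odd_sq_eq_one hr2 hUr (Subtype.ext ?_)
    have h2 : (θU ^ 2 ^ (j + e)) (a : R ⧸ K0) = (a : R ⧸ K0)⁻¹ := by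
      rw [← hc]
      show (θU ^ 2 ^ (j + e)) ((θU ^ 2 ^ (j + e)) c * c⁻¹) = ((θU ^ 2 ^ (j + e)) c * c⁻¹)⁻¹
      rw [map_mul, map_inv, hUU, mul_inv_rev, inv_inv]
    rw [h1] at h2
    rw [Subgroup.coe_pow, pow_two, Subgroup.coe_one]
    nth_rewrite 1 [h2]
    exact inv_mul_cancel _)
  obtain ⟨c, hcU⟩ := IsPGroup.iff_card.mp hUr
  have hc0 : 0 < c := by
    by_contra h
    rw [show c = 0 by omega, pow_zero] at hcU
    exact hU1 (Subgroup.card_eq_one.mp hcU)
  have hXdiv : 2 ^ (j + e + 1) ∣ r ^ c - 1 := ⟨RepU.card - 1, by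
    rw [← hcU, Nat.mul_sub_one]; omega⟩
  -- isotropy
  let Φ1 : δU.range →* (Fin (2 ^ j) → δ.range) := MonoidHom.pi fun k =>
    ((Pi.evalMonoidHom _ k).comp (ΦU.comp δU.range.subtype)).codRestrict δ.range fun u => by
      obtain ⟨c, hc⟩ := u.2
      refine ⟨ΦU c k, ?_⟩
      show ι0 (ΦU c k) * (ΦU c k)⁻¹ = ΦU (u : R ⧸ K0) k
      rw [← hc, ← hΦι]
      show _ = ΦU ((θU ^ 2 ^ (j + e)) c * c⁻¹) k
      rw [map_mul, map_inv]
      rfl
  have hΦ1 : Function.Injective Φ1 := fun a b h => Subtype.ext (hΦU (funext fun k =>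
    congrArg Subtype.val (congrFun h k)))
  haveI hB := enoughRoots (K := K) (Fin (2 ^ j) → δ.range) (by
    rw [Nat.card_fun, Nat.cast_pow]
    exact pow_ne_zero _ (natCast_card_ne_zero hrK (hAr.to_subgroup δ.range)))
  let bB : (Fin (2 ^ j) → δ.range) →* ((Fin (2 ^ j) → δ.range) →* Kˣ) :=
    MonoidHom.mk' (fun x => MonoidHom.mk' (fun y => ∏ k, b1 (x k) (y k)) fun y y' => by
      rw [← Finset.prod_mul_distrib]
      exact Finset.prod_congr rfl fun k _ => by rw [Pi.mul_apply, map_mul])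
      fun x x' => MonoidHom.ext fun y => by
        show ∏ k, b1 ((x * x') k) (y k) = (∏ k, b1 (x k) (y k)) * ∏ k, b1 (x' k) (y k)
        rw [← Finset.prod_mul_distrib]
        exact Finset.prod_congr rfl fun k _ => by rw [Pi.mul_apply, map_mul, MonoidHom.mul_apply]
  have hbB : Function.Injective bB := by
    rw [injective_iff_map_eq_one]
    intro x hx
    refine funext fun k => hb1inj ?_
    rw [Pi.one_apply, map_one]
    refine MonoidHom.ext fun a => ?_
    have h1 := DFunLike.congr_fun hx (Pi.mulSingle k a)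
    change ∏ i, b1 (x i) ((Pi.mulSingle k a : Fin (2 ^ j) → δ.range) i) = 1 at h1
    rw [Finset.prod_eq_single k (fun i _ hik => by rw [Pi.mulSingle_eq_of_ne hik, map_one]) (by simp),
      Pi.mulSingle_eq_same] at h1
    exact h1
  have hiso : ∀ x ∈ Φ1.range, ∀ y ∈ Φ1.range, bB x y = 1 := by
    rintro _ ⟨⟨x', hx'⟩, rfl⟩ _ ⟨⟨y', hy'⟩, rfl⟩
    obtain ⟨x, rfl⟩ := QuotientGroup.mk_surjective x'
    obtain ⟨y, rfl⟩ := QuotientGroup.mk_surjective y'
    let z : ↥(commutator R) := ⟨⁅x, y⁆, hmem x y⟩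
    have hval : bB (Φ1 ⟨_, hx'⟩) (Φ1 ⟨_, hy'⟩) = ∏ k ∈ Finset.range (2 ^ j), χ ((γ ^ k) z) := by
      show ∏ k : Fin (2 ^ j), bA ((θ ^ (k : ℕ)) x : R ⧸ Rad) ((θ ^ (k : ℕ)) y : R ⧸ Rad) = _
      rw [← Fin.prod_univ_eq_prod_range]
      refine Finset.prod_congr rfl fun k _ => ?_
      rw [hbA]
      show χ _ = χ _
      congr 1
      refine Subtype.ext ?_
      rw [hγk]
      exact (map_commutatorElement (θ ^ (k : ℕ)) x y).symm
    rw [hval]
    have hper : ∀ k, χ ((γ ^ (k + 2 ^ j)) z) = χ ((γ ^ k) z) := fun k => by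
      rw [add_comm, pow_add, MulAut.mul_apply, hχj]
    have hz' : ∏ k ∈ Finset.range (2 ^ (j + e + 1)), (γ ^ k) z = 1 := by
      have hfixz : (γ ^ 2 ^ (j + e + 1)) z = z := by rw [restrictAut_pow_eq_one θ _ hCi hθ]; rfl
      obtain ⟨m, hm⟩ : ∃ m, 2 ^ (j + e + 1) = m + 1 :=
        ⟨2 ^ (j + e + 1) - 1, by have := Nat.two_pow_pos (j + e + 1); omega⟩
      rw [hm] at hfixz ⊢
      refine Subtype.ext (hfpf _ (congrArg Subtype.val (show γ _ = _ from ?_)))
      rw [map_prod, Finset.prod_range_succ' (fun k => (γ ^ k) z), Finset.prod_range_succ]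
      congr 1
      · exact Finset.prod_congr rfl fun k _ => by rw [pow_succ', MulAut.mul_apply]
      · rw [← MulAut.mul_apply, ← pow_succ', hfixz, pow_zero, MulAut.one_apply]
    have h2 := congrArg χ hz'
    rw [map_prod, map_one, hpe, prod_range_periodic (fun k => χ ((γ ^ k) z)) _ hper] at h2
    rw [← map_prod] at h2 ⊢
    obtain ⟨a, ha⟩ := IsPGroup.iff_orderOf.mp hZ (∏ k ∈ Finset.range (2 ^ j), (γ ^ k) z)
    exact orderOf_eq_one_iff.mp (Nat.eq_one_of_dvd_coprimes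
      (((Nat.coprime_primes hr.out Nat.prime_two).mpr hr2).pow a (e + 1))
      (ha ▸ orderOf_map_dvd χ _) (orderOf_dvd_of_pow_eq_one h2))
  have hcard := card_isotropic bB hbB Φ1.range hiso
  rw [← Subgroup.index_ker, (MonoidHom.ker_eq_bot_iff Φ1).mpr hΦ1, Subgroup.index_bot, hcU, Nat.card_fun,
    Nat.card_fin, hL, ← pow_mul, ← pow_mul, ← pow_mul] at hcard
  have hc' : c ≤ d * 2 ^ j := by
    have := (Nat.pow_le_pow_iff_right hr.out.one_lt).mp hcard
    nlinarith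
  have hd0 : 0 < d := by
    by_contra h
    rw [show d = 0 by omega, zero_mul] at hc'
    omega
  have hX2 : 2 ^ (e + 1 + j) ∣ r ^ c - 1 := by rwa [show e + 1 + j = j + e + 1 by omega]
  -- the fixed part of the quotient is fixed by the stabiliser of the weight
  have hclaim : ∀ a ∈ δ.ker, τA a = a ∧ 2 ≤ e + 1 ∧ (r ≠ 3 → 3 ≤ e + 1) := by
    have hcz : ∀ (x : R) (z : ↥(commutator R)), ρ z * ρ x = ρ x * ρ z := fun x z => by
      rw [← map_mul, ← map_mul, Subgroup.mem_center_iff.mp (hcen z.2) x]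
    let U : Submodule K W := weight φZ χ
    have hU : ∀ x, ∀ w ∈ U, ρ x w ∈ U := fun x w hw z => by
      show (ρ z * ρ x) w = _
      rw [hcz x z, Module.End.mul_apply]
      exact (congrArg (ρ x) (hw z)).trans (map_smul _ _ _)
    have hperiod : ∀ {B : Type _} [CommGroup B] (γ' : MulAut B) (χ' : B →* Kˣ) (k : ℕ),
        (∀ x, χ' ((γ' ^ k) x) = χ' x) → χ'.comp (γ' ^ k).symm.toMonoidHom = χ' := by
      intro B _ γ' χ' k h
      refine MonoidHom.ext fun x => ?_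
      conv_rhs => rw [← (γ' ^ k).apply_symm_apply x, h]
      rfl
    have hTU : ∀ w ∈ U, (T ^ 2 ^ j) w ∈ U := fun w hw => by
      have := weight_move φZ γ T hγc hw (2 ^ j)
      rwa [hperiod γ χ _ hχj] at this
    let ρ1 := restrictRep ρ U hU
    let T1 : Module.End K U := (T ^ 2 ^ j).restrict hTU
    have hc1 : ∀ x (u : U), T1 (ρ1 x u) = ρ1 ((θ ^ 2 ^ j) x) (T1 u) := fun x u =>
      Subtype.ext (compat_pow ρ θ T hc (2 ^ j) x u)
    have hT1 : T1 ^ 2 ^ (e + 1) = 1 := LinearMap.ext fun u => Subtype.ext (by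
      rw [restrict_pow, ← pow_mul, ← hpe, hT]; rfl)
    have hT1f : ∀ u, T1 u = u → u = 0 := fun u hu => Subtype.ext (hTj u u.2 (congrArg Subtype.val hu))
    have hcomm1 : ∀ x y (u : U), ρ1 x (ρ1 y u) = (f x y : K) • ρ1 y (ρ1 x u) := fun x y u => Subtype.ext (by
      show ρ x (ρ y u) = (f x y : K) • ρ y (ρ x u)
      rw [← Module.End.mul_apply, ← map_mul, show x * y = ⁅x, y⁆ * (y * x) by
        simp only [commutatorElement_def]; group, map_mul, Module.End.mul_apply, map_mul, Module.End.mul_apply]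
      exact hU y _ (hU x _ u.2) ⟨⁅x, y⁆, hmem x y⟩)
    have hRc : ∀ z z' : Rad, (ρ1.comp Rad.subtype).toHomUnits z * (ρ1.comp Rad.subtype).toHomUnits z' =
        (ρ1.comp Rad.subtype).toHomUnits z' * (ρ1.comp Rad.subtype).toHomUnits z := fun z z' => Units.ext
      (LinearMap.ext fun u => by
        simp only [Units.val_mul, MonoidHom.coe_toHomUnits, Module.End.mul_apply, MonoidHom.comp_apply,
          Subgroup.coe_subtype]
        rw [hcomm1, hRad.mp z.2, Units.val_one, one_smul])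
    let φR : Rad ⧸ commutator Rad →* Module.End K U := (Units.coeHom _).comp
      (QuotientGroup.lift (commutator Rad) (ρ1.comp Rad.subtype).toHomUnits (by
        rw [commutator_def, Subgroup.commutator_le]
        intro z _ z' _
        rw [MonoidHom.mem_ker, map_commutatorElement, commutatorElement_eq_one_iff_mul_comm]
        exact hRc z z'))
    have hφR : ∀ (z : Rad) u, φR (z : Rad ⧸ commutator Rad) u = ρ1 z u := fun z u => rfl
    letI : CommGroup (Rad ⧸ commutator Rad) := { (inferInstance : Group (Rad ⧸ commutator Rad)) with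
      mul_comm := fun a b => mul_comm (G := Abelianization Rad) a b }
    let _ := Fintype.ofFinite (Rad ⧸ commutator Rad)
    have hRK' : ((Fintype.card (Rad ⧸ commutator Rad) : ℕ) : K) ≠ 0 := by
      rw [← Nat.card_eq_fintype_card]; exact natCast_card_ne_zero hrK ((hR.to_subgroup Rad).to_quotient _)
    let γR : MulAut (Rad ⧸ commutator Rad) := quotAut (restrictAut (θ ^ 2 ^ j) Rad hRadinv) (commutator Rad)
      (invariant_of_characteristic _ _)
    have hγR : ∀ a u, T1 (φR a u) = φR (γR a) (T1 u) := fun a u => by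
      obtain ⟨z, rfl⟩ := QuotientGroup.mk_surjective a
      exact hc1 z u
    obtain ⟨lam, w1, hw1, hw1n⟩ := exists_weight hRK' φR (w := (⟨v0, hv0⟩ : U))
      fun h => hv0n (congrArg Subtype.val h)
    obtain ⟨i, hi, hlam, hTi⟩ := exists_period hRK' Nat.prime_two φR γR T1 hγR hT1 hT1f hw1 hw1n
    let U2 : Submodule K U := weight φR lam
    have hU2 : ∀ x, ∀ u ∈ U2, ρ1 x u ∈ U2 := fun x u hu a => by
      obtain ⟨z, rfl⟩ := QuotientGroup.mk_surjective a
      rw [hφR, hcomm1, hRad.mp z.2, Units.val_one, one_smul, ← hφR, hu, map_smul]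
    have hTU2 : ∀ u ∈ U2, (T1 ^ 2 ^ i) u ∈ U2 := fun u hu => by
      have := weight_move φR γR T1 hγR hu (2 ^ i)
      rwa [hperiod γR lam _ hlam] at this
    let ρ2 := restrictRep ρ1 U2 hU2
    let T2 : Module.End K U2 := (T1 ^ 2 ^ i).restrict hTU2
    haveI : Nontrivial U2 := ⟨⟨⟨w1, hw1⟩, 0, fun h => hw1n (congrArg Subtype.val h)⟩⟩
    obtain ⟨e', rfl⟩ : ∃ e', e = i + e' := Nat.exists_eq_add_of_le (by omega)
    have hpi : 2 ^ (i + e' + 1) = 2 ^ i * 2 ^ (e' + 1) := by rw [← pow_add, add_assoc]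
    have hcount : ∀ Rep : Finset (R ⧸ Rad), (∀ a, ∃ k, ((τA ^ 2 ^ i) ^ k) a ∈ Rep) →
        Nat.card (R ⧸ Rad) ≤ (2 ^ (e' + 1) - 1) * Rep.card := fun Rep hcov =>
      counting_reps (QuotientGroup.mk' Rad) (QuotientGroup.mk'_surjective Rad) ρ2 bA⁻¹
        (fun a a' h => hbinj (inv_injective h)) hAK
        (fun x hx => ⟨lam ((⟨x, (QuotientGroup.eq_one_iff x).mp hx⟩ : Rad) : Rad ⧸ commutator Rad),
          fun u => Subtype.ext (u.2 ((⟨x, (QuotientGroup.eq_one_iff x).mp hx⟩ : Rad) : Rad ⧸ commutator Rad))⟩)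
        (fun x y u => Subtype.ext (by
          show ρ1 x (ρ1 y u) = (((bA (y : R ⧸ Rad))⁻¹ (x : R ⧸ Rad) : Kˣ) : K) • ρ1 y (ρ1 x u)
          rw [MonoidHom.inv_apply, hbA, hf2 x y, inv_inv]
          exact hcomm1 x y _))
        Nat.prime_two (by exact_mod_cast h2K) ((θ ^ 2 ^ j) ^ 2 ^ i) T2 (e := e')
        (LinearMap.ext fun u => Subtype.ext (by rw [restrict_pow, ← pow_mul, ← hpi, hT1]; rfl))
        (fun u hu => Subtype.ext (hTi u u.2 (congrArg Subtype.val hu)))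
        (fun x u => Subtype.ext (compat_pow ρ1 (θ ^ 2 ^ j) T1 hc1 (2 ^ i) x u)) (τA ^ 2 ^ i)
        (fun x => (quotAut_pow (θ ^ 2 ^ j) Rad hRadinv (2 ^ i) x).symm)
        (by rw [← pow_mul, ← hpi, hτA])
        (fun a a' => by
          show (bA _ _)⁻¹ = (bA _ _)⁻¹
          rw [hbτk])
        Rep hcov
    let τ1 : MulAut δ.range := restrictAut (τA ^ 2 ^ i) δ.range (hA1inv _)
    obtain ⟨Rep1, hRep1, hcov1⟩ := exists_reps τ1 Nat.prime_two
      (restrictAut_pow_eq_one _ _ _ (show (τA ^ 2 ^ i) ^ 2 ^ (e' + 1) = 1 by rw [← pow_mul, ← hpi, hτA])) (fun a ha => by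
        have h1 : ι0 (a : R ⧸ Rad) = (a : R ⧸ Rad) := by
          have := congrArg Subtype.val ha
          rw [restrictAut_pow, ← pow_mul, ← pow_add] at this
          exact this
        rw [hneg _ a.2] at h1
        refine odd_sq_eq_one hr2 (hAr.to_subgroup δ.range) (Subtype.ext ?_)
        rw [Subgroup.coe_pow, pow_two, Subgroup.coe_one]
        nth_rewrite 1 [← h1]
        exact inv_mul_cancel _)
    have hcardA : Nat.card (R ⧸ Rad) = Nat.card δ.ker * Nat.card δ.range := by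
      rw [Subgroup.card_eq_card_quotient_mul_card_subgroup δ.ker,
        Nat.card_congr (QuotientGroup.quotientKerEquivRange δ).toEquiv, mul_comm]
    let _ := Fintype.ofFinite δ.ker
    let Rep : Finset (R ⧸ Rad) :=
      ((Finset.univ : Finset δ.ker) ×ˢ Rep1).image fun x => (x.1 : R ⧸ Rad) * (x.2 : R ⧸ Rad)
    have hcov : ∀ a, ∃ k, ((τA ^ 2 ^ i) ^ k) a ∈ Rep := fun a => by
      obtain ⟨u, hu, v, hv, rfl⟩ := hdec a
      obtain ⟨k, hk⟩ := hcov1 ⟨v, hv⟩
      have hu' : ((τA ^ 2 ^ i) ^ k) u ∈ δ.ker := by rw [← pow_mul]; exact hA0inv _ u hu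
      refine ⟨k, Finset.mem_image.mpr ⟨(⟨_, hu'⟩, (τ1 ^ k) ⟨v, hv⟩), ?_, ?_⟩⟩
      · exact Finset.mem_product.mpr ⟨Finset.mem_univ _, hk⟩
      · show _ * _ = _
        rw [map_mul, restrictAut_pow]
    have hRepcard : Rep.card ≤ Nat.card δ.ker * Rep1.card := by
      refine Finset.card_image_le.trans ?_
      rw [Finset.card_product, Finset.card_univ, Nat.card_eq_fintype_card]
    obtain ⟨P, hP⟩ : ∃ P, 2 ^ (e' + 1) = P + 1 :=
      ⟨2 ^ (e' + 1) - 1, by have := Nat.two_pow_pos (e' + 1); omega⟩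
    rw [hP] at hRep1
    have hN1 : Nat.card δ.range ≤ P * P := by
      have h1 : Nat.card δ.ker * Nat.card δ.range ≤ Nat.card δ.ker * (P * Rep1.card) := by
        rw [← hcardA, mul_left_comm]
        refine (hcount Rep hcov).trans ?_
        rw [hP, Nat.add_sub_cancel]
        exact Nat.mul_le_mul_left _ hRepcard
      have h2 := Nat.le_of_mul_le_mul_left h1 Nat.card_pos
      nlinarith
    have hle2 : (r ^ d) ^ 2 ≤ (2 ^ (i + e' + 1) - 1) ^ 2 := by
      rw [← hL]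
      refine hN1.trans ?_
      rw [← pow_two]
      refine Nat.pow_le_pow_left ?_ 2
      have : 2 ^ (e' + 1) ≤ 2 ^ (i + e' + 1) := Nat.pow_le_pow_right two_pos (by omega)
      omega
    obtain ⟨hd1, hr1, hm2, hm3⟩ := arith_two hr.out hr2 hd0 hle2 hc0 hc' hX2
    intro a ha
    refine ⟨?_, hm2, hm3⟩
    rw [hd1, pow_one] at hL
    have hi0 : i = 0 := by
      by_contra h
      have h1 : r ≤ P := by
        rw [hL, pow_two] at hN1
        exact Nat.mul_self_le_mul_self_iff.mp hN1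
      have h2 : 2 ^ (e' + 1) < 2 ^ (i + e' + 1) := Nat.pow_lt_pow_right (by norm_num) (by omega)
      omega
    subst hi0
    by_contra hmove
    have hrP : r = P := by rw [zero_add] at hr1; omega
    have hτa : τA a ∈ δ.ker := by simpa using hA0inv 1 a ha
    have hone : (1 : δ.range) ∈ Rep1 := by
      obtain ⟨k, hk⟩ := hcov1 1
      rwa [map_one] at hk
    let Rep' : Finset (R ⧸ Rad) :=
      (((Finset.univ : Finset δ.ker) ×ˢ Rep1).erase (⟨τA a, hτa⟩, 1)).image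
        fun x => (x.1 : R ⧸ Rad) * (x.2 : R ⧸ Rad)
    have hcov' : ∀ b, ∃ k, ((τA ^ 2 ^ 0) ^ k) b ∈ Rep' := fun b => by
      obtain ⟨u, hu, v, hv, rfl⟩ := hdec b
      obtain ⟨k, hk⟩ := hcov1 ⟨v, hv⟩
      have hu' : ((τA ^ 2 ^ 0) ^ k) u ∈ δ.ker := by rw [← pow_mul]; exact hA0inv _ u hu
      by_cases hex : ((τA ^ 2 ^ 0) ^ k) u = τA a ∧ (τ1 ^ k) ⟨v, hv⟩ = 1
      · refine ⟨k + P, Finset.mem_image.mpr ⟨(⟨a, ha⟩, 1), Finset.mem_erase.mpr ⟨fun h => hmove ?_,
          Finset.mem_product.mpr ⟨Finset.mem_univ _, hone⟩⟩, ?_⟩⟩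
        · exact (congrArg Subtype.val (congrArg Prod.fst h)).symm
        · have hv1 : ((τA ^ 2 ^ 0) ^ k) v = 1 := by
            have := congrArg Subtype.val hex.2
            rwa [restrictAut_pow] at this
          show a * 1 = ((τA ^ 2 ^ 0) ^ (k + P)) (u * v)
          rw [add_comm, pow_add, MulAut.mul_apply, map_mul, hex.1, hv1, map_mul, map_one]
          congr 1
          rw [pow_zero, pow_one, ← MulAut.mul_apply, ← pow_succ, ← hP]
          conv_lhs => rw [← MulAut.one_apply (R ⧸ Rad) a, ← hτA, zero_add]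
      · refine ⟨k, Finset.mem_image.mpr ⟨(⟨_, hu'⟩, (τ1 ^ k) ⟨v, hv⟩), Finset.mem_erase.mpr ⟨fun h => hex ?_,
          Finset.mem_product.mpr ⟨Finset.mem_univ _, hk⟩⟩, ?_⟩⟩
        · exact ⟨congrArg Subtype.val (congrArg Prod.fst h), congrArg Prod.snd h⟩
        · rw [map_mul, restrictAut_pow]
    have h1 : Rep'.card < Nat.card δ.ker * Rep1.card := by
      refine lt_of_le_of_lt Finset.card_image_le ?_
      refine lt_of_lt_of_eq (Finset.card_erase_lt_of_mem (Finset.mem_product.mpr ⟨Finset.mem_univ _, hone⟩)) ?_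
      rw [Finset.card_product, Finset.card_univ, Nat.card_eq_fintype_card]
    have h2 := hcount Rep' hcov'
    rw [hP, Nat.add_sub_cancel, hcardA, hL, hrP] at h2
    rw [hL, hrP] at hRep1
    have hR1 : Rep1.card = P := by nlinarith
    rw [hR1] at h1
    have hP0 : 0 < P := by have := hr.out.two_le; omega
    nlinarith [Nat.mul_lt_mul_of_pos_left h1 hP0]
  -- hence a smaller power fixes the fixed points
  have hfixU : ∀ u, (θU ^ 2 ^ (j + e)) u = u → (θU ^ 2 ^ j) u = u := fun u hu => hΦU (funext fun k => by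
    have h1 : ι0 (ΦU u k) = ΦU u k := by rw [← hΦι, hu]
    have h2 := (hclaim _ (hA0.mpr h1)).1
    obtain ⟨y, rfl⟩ := QuotientGroup.mk_surjective u
    rw [quotAut_pow]
    show (((θ ^ (k : ℕ)) ((θ ^ 2 ^ j) y) : R) : R ⧸ Rad) = (((θ ^ (k : ℕ)) y : R) : R ⧸ Rad)
    rw [← MulAut.mul_apply, ← pow_add, add_comm, pow_add, MulAut.mul_apply]
    exact h2)
  obtain ⟨-, hm2, hm3⟩ := hclaim 1 (one_mem _)
  letI : CommGroup (R ⧸ K1) := { (inferInstance : Group (R ⧸ K1)) with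
    mul_comm := fun a b => by
      obtain ⟨x, rfl⟩ := QuotientGroup.mk_surjective a
      obtain ⟨y, rfl⟩ := QuotientGroup.mk_surjective b
      refine (QuotientGroup.eq).mpr (Subgroup.mem_sup_left ?_)
      rw [show (x * y)⁻¹ * (y * x) = ⁅y⁻¹, x⁻¹⁆ by simp only [commutatorElement_def]; group]
      exact hCK0 (hmem _ _) }
  have hfix1 : ∀ v, (θ1 ^ 2 ^ (j + e)) v = v → ∀ s, j ≤ s → (θ1 ^ 2 ^ s) v = v := by
    intro v hv s hs
    obtain ⟨k, hk⟩ := odd_sqrt hr2 (hR.to_quotient K1) v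
    obtain ⟨y, hy⟩ := QuotientGroup.mk_surjective (v ^ k)
    have hy' : (((θ ^ 2 ^ (j + e)) y * y : R) : R ⧸ K1) = v := by
      rw [QuotientGroup.mk_mul, ← quotAut_pow θ K1 hK1θ, hy, map_pow, hv, ← mul_pow, ← pow_two, hk]
    have h1 : (θU ^ 2 ^ j) (((θ ^ 2 ^ (j + e)) y * y : R) : R ⧸ K0) = (((θ ^ 2 ^ (j + e)) y * y : R) : R ⧸ K0) :=
      hfixU _ (by
        rw [QuotientGroup.mk_mul, ← quotAut_pow θ K0 hK0θ, map_mul, hUU, mul_comm])
    have h2 : (θ1 ^ 2 ^ j) v = v := by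
      rw [quotAut_pow] at h1
      rw [← hy', quotAut_pow]
      exact QuotientGroup.eq.mpr (Subgroup.mem_sup_left (QuotientGroup.eq.mp h1))
    rw [show 2 ^ s = 2 ^ j * 2 ^ (s - j) by rw [← pow_add, Nat.add_sub_cancel' hs], pow_mul]
    exact pow_apply_fixed _ h2 _
  have hfpf1 : ∀ v, θ1 v = v → v = 1 := quotAut_fpf θ K1 hK1θ hfpf
  obtain ⟨W1, _, _, _, ρq, Tq, hcq, hTq, hTqf, hker, hrel⟩ := exists_module_of_action r (fun v => by
    obtain ⟨y, rfl⟩ := QuotientGroup.mk_surjective v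
    rw [← QuotientGroup.mk_pow, QuotientGroup.eq_one_iff]
    exact Subgroup.mem_sup_right (CfsgLib.pow_mem_frattini_pGroup hR y)) act1 θ1 θQ0 hcomp1 hfpf1
  have hcast : ∀ m : ℕ, m.Prime → m ≠ r → (m : AlgebraicClosure (ZMod r)) ≠ 0 := fun m hm hne h => by
    rw [CharP.cast_eq_zero_iff (AlgebraicClosure (ZMod r)) r] at h
    exact hne ((Nat.prime_dvd_prime_iff_eq hr.out hm).1 h).symm
  have hθ1 : θ1 ^ 2 ^ (j + e + 1) = 1 := quotAut_pow_eq_one _ _ _ hθ
  have hsq1 : (θ1 ^ 2 ^ (j + e)) ^ 2 = 1 := by rw [← pow_mul, ← pow_succ, hθ1]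
  intro a
  have h1 := key_two (n := j + e) (q := q) hq2 (by exact_mod_cast hcast 2 Nat.prime_two hr2.symm)
    (hcast q hq.out hrq.symm) Tq (hTq _ hθ1) hTqf hn
    (hrel _ _ hr2 hsq1 fun v hv => hfix1 v hv _ (by omega))
    (fun hq3 => hrel _ _ hr2 hsq1 fun v hv => hfix1 v hv _ (by
      have := hm3 (hq3 ▸ hrq)
      omega))
    _ Q0 rfl (hQ.to_subgroup Q0) θQ0 (restrictAut_pow_eq_one θQ Q0 hQ0i hθQ)
    (fun x hx => restrictAut_fpf θQ Q0 hQ0i hfQ x hx) ρq hcq a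
  refine inv_mul_eq_one.mp ?_
  rw [← map_inv, ← map_mul]
  exact (hker _).mp (by rw [map_mul, ← h1, ← map_mul, inv_mul_cancel, map_one])

end CfsgLib.ShultGross
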