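import Mathlib
import Cfsg.Agent.S3794
import Cfsg.Agent.Lib.NilpotentCommute
import Cfsg.Agent.Lib.ShultGross.Reduction
import Cfsg.Agent.Lib.ShultGross.TwoLevel

/-!
Gross' theorem on automorphisms of `2`-power order without fixed points.
-/

set_option autoImplicit false
set_option linter.unusedSectionVars false

namespace CfsgLib.ShultGross

open Cfsg

universe u

/-- On the quotient by the Fitting subgroup the cores have enough representations without fixed vectors. -/
theorem separated_core {G : Type u} [Group G] [Finite G] {n : ℕ} (σ : MulAut G) (hσ : σ ^ 2 ^ (n + 1) = 1)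
    (hfpf : ∀ g, σ g = g → g = 1) (r : ℕ) [Fact r.Prime] (hr2 : r ≠ 2) :
    Separated r
      (restrictAut (quotAut σ (fittingSubgroup G) (fitting_invariant σ)) (pCore r (G ⧸ fittingSubgroup G))
        (invariant_of_characteristic _ _)) (2 ^ (n + 1)) := by
  classical
  set F := fittingSubgroup G with hF
  set σq := quotAut σ F (fitting_invariant σ) with hσq
  set R := pCore r (G ⧸ F) with hR
  have hπ : Function.Surjective (QuotientGroup.mk' F) := QuotientGroup.mk'_surjective F
  have hG2 : ¬ 2 ∣ Nat.card G := by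
    haveI : Fact (Nat.Prime 2) := ⟨Nat.prime_two⟩
    exact not_dvd_card σ hσ hfpf
  set L := R.comap (QuotientGroup.mk' F) with hL
  haveI : L.Normal := Subgroup.Normal.comap inferInstance _
  have hLi : ∀ x ∈ L, σ x ∈ L := fun x hx => by
    have := invariant_of_characteristic σq R (x : G ⧸ F) hx
    exact this
  obtain ⟨S, hS⟩ := exists_invariant_sylow (restrictAut σ L hLi) (restrictAut_fpf σ L hLi hfpf) r
  set Rh := (S : Subgroup L).map L.subtype with hRh
  have hRhp : IsPGroup r Rh := S.2.map _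
  have hRhi : ∀ x ∈ Rh, σ x ∈ Rh := by
    rintro _ ⟨y, hy, rfl⟩
    exact ⟨restrictAut σ L hLi y, hS y hy, rfl⟩
  let f : Rh →* R := ((QuotientGroup.mk' F).comp Rh.subtype).codRestrict R fun y =>
    (Subgroup.map_subtype_le _ y.2 : (y : G) ∈ L)
  have hf : Function.Surjective f := by
    let f0 : L →* R := ((QuotientGroup.mk' F).comp L.subtype).codRestrict R fun y => y.2
    have hf0 : Function.Surjective f0 := fun y => by
      obtain ⟨g, hg⟩ := hπ y.1
      exact ⟨⟨g, show QuotientGroup.mk' F g ∈ _ from hg ▸ y.2⟩, Subtype.ext hg⟩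
    have htop : (S.mapSurjective hf0 : Subgroup R) = ⊤ :=
      ((S.mapSurjective hf0).is_maximal' ((CfsgLib.isPGroup_pCore r).of_equiv Subgroup.topEquiv.symm) le_top).symm
    intro x
    obtain ⟨y, hy, hyx⟩ : x ∈ ((S : Subgroup L).map f0 : Subgroup R) := (htop.trans rfl).ge (Subgroup.mem_top _)
    exact ⟨⟨y, y, hy, rfl⟩, hyx⟩
  intro u hu
  obtain ⟨uh, huh⟩ := hf u
  obtain ⟨s, hsr, hnc⟩ : ∃ s : Nat.Primes, (s : ℕ) ≠ r ∧
      (uh : G) ∉ Subgroup.centralizer (pCore (s : ℕ) G : Set G) := by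
    by_contra h
    push Not at h
    refine hu ?_
    rw [← huh]
    refine Subtype.ext ((QuotientGroup.eq_one_iff _).mpr ?_)
    refine mem_fitting_of_centralizes L (fun y hy => ?_) (Subgroup.map_subtype_le _ uh.2) fun t => h t.1 t.2
    obtain ⟨k, hk⟩ := CfsgLib.isPGroup_pCore (G := G ⧸ F) r ⟨_, hy⟩
    exact ⟨k, (QuotientGroup.eq_one_iff _).mp (congrArg Subtype.val hk)⟩
  haveI := Fact.mk s.2
  have hs2 : (s : ℕ) ≠ 2 := fun h2 => hnc (by
    have hb : pCore (s : ℕ) G = ⊥ := by
      refine Subgroup.eq_bot_of_card_eq _ ?_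
      obtain ⟨a, ha⟩ := IsPGroup.iff_card.mp (CfsgLib.isPGroup_pCore (G := G) (s : ℕ))
      rcases a with _ | a
      · simpa using ha
      · exact absurd (h2 ▸ ((dvd_pow_self (s : ℕ) a.succ_ne_zero).trans (ha ▸ Subgroup.card_subgroup_dvd_card _)))
          hG2
    rw [hb, Subgroup.mem_centralizer_iff]
    intro y hy
    rw [Subgroup.coe_bot, Set.mem_singleton_iff] at hy
    rw [hy, one_mul, mul_one])
  obtain ⟨W, i1, i2, i3, ρh, T, hc, hT, hTf, hker⟩ := exists_frattini_module (Ne.symm hsr) σ hσ hfpf Rh hRhp hRhi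
    (pCore (s : ℕ) G) (CfsgLib.isPGroup_pCore _) (invariant_of_characteristic σ _)
  have hkerle : f.ker ≤ ρh.ker := by
    intro y hy
    have hyF : (y : G) ∈ F := (QuotientGroup.eq_one_iff _).mp (congrArg Subtype.val (MonoidHom.mem_ker.mp hy))
    have hcen : (y : G) ∈ Subgroup.centralizer (pCore (s : ℕ) G : Set G) := by
      rw [Subgroup.mem_centralizer_iff]
      intro z hz
      haveI : Group.IsNilpotent F := CfsgLib.isNilpotent_fittingSubgroup
      have hzF : z ∈ F := CfsgLib.pCore_le_fittingSubgroup s.2 hz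
      obtain ⟨a, ha⟩ := IsPGroup.iff_orderOf.mp hRhp y
      obtain ⟨b, hb⟩ := IsPGroup.iff_orderOf.mp (CfsgLib.isPGroup_pCore (G := G) (s : ℕ)) ⟨z, hz⟩
      rw [Subgroup.orderOf_mk] at hb
      rw [← Subgroup.orderOf_coe] at ha
      have h1 := CfsgLib.commute_of_nilpotent (⟨z, hzF⟩ : F) ⟨y, hyF⟩ (by
        rw [Subgroup.orderOf_mk, Subgroup.orderOf_mk, ha, hb]
        exact ((Nat.coprime_primes s.2 Fact.out).mpr hsr).pow b a)
      exact congrArg Subtype.val h1.eq
    exact MonoidHom.mem_ker.mpr ((hker y).mpr hcen)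
  let ρ : R →* Module.End (AlgebraicClosure (ZMod (s : ℕ))) W :=
    (QuotientGroup.lift f.ker ρh hkerle).comp (QuotientGroup.quotientKerEquivOfSurjective f hf).symm.toMonoidHom
  have hρ : ∀ y, ρ (f y) = ρh y := fun y => by
    show QuotientGroup.lift f.ker ρh hkerle ((QuotientGroup.quotientKerEquivOfSurjective f hf).symm (f y)) = ρh y
    rw [show (QuotientGroup.quotientKerEquivOfSurjective f hf).symm (f y) = (y : Rh ⧸ f.ker) from
      (MulEquiv.symm_apply_eq _).mpr rfl]
    rfl
  have hcast : ∀ m : ℕ, m.Prime → m ≠ (s : ℕ) → (m : AlgebraicClosure (ZMod (s : ℕ))) ≠ 0 := fun m hm hne h => by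
    rw [CharP.cast_eq_zero_iff (AlgebraicClosure (ZMod (s : ℕ))) (s : ℕ)] at h
    exact hne ((Nat.prime_dvd_prime_iff_eq s.2 hm).1 h).symm
  refine ⟨AlgebraicClosure (ZMod (s : ℕ)), inferInstance, inferInstance, W, i1, i2, i3, ρ, T,
    hcast r Fact.out (Ne.symm hsr), by exact_mod_cast hcast 2 Nat.prime_two hs2.symm, hT, hTf, fun x w => ?_,
    fun h => hnc ((hker uh).mp (by rw [← hρ, huh, h]))⟩
  obtain ⟨y, rfl⟩ := hf x
  rw [hρ, hc, show restrictAut σq R (invariant_of_characteristic _ _) (f y) = f (restrictAut σ Rh hRhi y) from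
    Subtype.ext rfl, hρ]

/-- The top power fixes the quotient by the second Fitting subgroup. -/
theorem second_fixed {G : Type u} [Group G] [Finite G] [Group.IsSolvable G] {n : ℕ} (hn : 2 ≤ n) (σ : MulAut G)
    (hσ : σ ^ 2 ^ (n + 1) = 1) (hfpf : ∀ g, σ g = g → g = 1) :
    quotAut (quotAut σ (fittingSubgroup G) (fitting_invariant σ)) (fittingSubgroup (G ⧸ fittingSubgroup G))
      (fitting_invariant _) ^ 2 ^ n = 1 := by
  haveI : Fact (Nat.Prime 2) := ⟨Nat.prime_two⟩
  haveI : Group.IsSolvable (G ⧸ fittingSubgroup G) :=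
    Group.isSolvable_of_surjective (QuotientGroup.mk'_surjective (fittingSubgroup G))
  set σq := quotAut σ (fittingSubgroup G) (fitting_invariant σ) with hσq
  have hq : σq ^ 2 ^ (n + 1) = 1 := quotAut_pow_eq_one _ _ _ hσ
  have hqf : ∀ x, σq x = x → x = 1 := quotAut_fpf _ _ _ hfpf
  refine quot_fixed σq hq hqf fun q r hq' hr' h2q hqr h2r Q hQ hQi x hx => ?_
  haveI := Fact.mk hq'
  haveI := Fact.mk hr'
  set R := pCore r (G ⧸ fittingSubgroup G) with hR
  have h1 := two_level (n := n) (Ne.symm h2r) (Ne.symm h2q) (Ne.symm hqr) hn _ R rfl (CfsgLib.isPGroup_pCore r)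
    (restrictAut σq R (invariant_of_characteristic _ _)) (restrictAut_pow_eq_one _ _ _ hq)
    (fun y hy => restrictAut_fpf σq R _ hqf y hy) (separated_core σ hσ hfpf r (Ne.symm h2r)) Q hQ
    (restrictAut σq Q hQi) (restrictAut_pow_eq_one _ _ _ hq) (fun y hy => restrictAut_fpf σq Q hQi hqf y hy)
    ((MulAut.conjNormal (H := R)).comp Q.subtype) (fun a y => Subtype.ext (by
      show σq ((a : G ⧸ fittingSubgroup G) * y * (a : G ⧸ fittingSubgroup G)⁻¹) = σq a * σq y * (σq a)⁻¹
      rw [map_mul, map_mul, map_inv]))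
    ⟨x, hx⟩
  rw [Subgroup.mem_centralizer_iff]
  intro y hy
  have h2 := congrArg Subtype.val (h1 ⟨y, hy⟩)
  simp only [MonoidHom.comp_apply, Subgroup.coe_subtype, restrictAut_pow, MulAut.conjNormal_apply] at h2
  generalize (σq ^ 2 ^ n) x = v at h2 ⊢
  calc y * (x⁻¹ * v) = x⁻¹ * (x * y * x⁻¹) * v := by group
    _ = x⁻¹ * (v * y * v⁻¹) * v := by rw [h2]
    _ = x⁻¹ * v * y := by group

/-- Gross' theorem. -/
theorem resIter_eq_bot_two :
    ∀ (n : ℕ) (G : Type u) [Group G] [Finite G], Group.IsSolvable G → ∀ σ : MulAut G, σ ^ 2 ^ (n + 2) = 1 →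
      (∀ g, σ g = g → g = 1) → CfsgLib.FFLength.resIter (2 * (n + 1)) (⊤ : Subgroup G) = ⊥ := by
  intro n
  induction n with
  | zero =>
    intro G _ _ hsol σ hσ hfpf
    haveI := Cfsg.Agent.S3794.result hsol σ (by simpa using hσ) hfpf
    have h1 : CfsgLib.FFLength.res (⊤ : Subgroup G) ≤ commutator G := (iInf_le _ 1).trans
      (by rw [commutator_def]; simp)
    show CfsgLib.FFLength.res (CfsgLib.FFLength.res ⊤) = ⊥
    refine le_bot_iff.mp ((CfsgLib.FFLength.res_mono h1).trans (le_of_eq ?_))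
    exact (CfsgLib.FFLength.res_eq_bot _).mpr inferInstance
  | succ n ih =>
    intro G _ _ hsol σ hσ hfpf
    haveI := hsol
    set F := fittingSubgroup G with hF
    haveI : Group.IsSolvable (G ⧸ F) := Group.isSolvable_of_surjective (QuotientGroup.mk'_surjective F)
    set σq := quotAut σ F (fitting_invariant σ) with hσq
    set F2 := fittingSubgroup (G ⧸ F) with hF2
    set σ2 := quotAut σq F2 (fitting_invariant _) with hσ2
    have hfix : σ2 ^ 2 ^ (n + 2) = 1 := second_fixed (by omega) σ hσ hfpf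
    have hIH := ih ((G ⧸ F) ⧸ F2) (Group.isSolvable_of_surjective (QuotientGroup.mk'_surjective F2)) σ2 hfix
      (quotAut_fpf _ _ _ (quotAut_fpf _ _ _ hfpf))
    have hle : CfsgLib.FFLength.resIter (2 * (n + 1)) (⊤ : Subgroup (G ⧸ F)) ≤ F2 := by
      have h1 := CfsgLib.FFLength.resIter_map (QuotientGroup.mk' F2) (⊤ : Subgroup (G ⧸ F)) (2 * (n + 1))
      rw [Subgroup.map_top_of_surjective _ (QuotientGroup.mk'_surjective F2), hIH, Subgroup.map_eq_bot_iff,
        QuotientGroup.ker_mk'] at h1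
      exact h1
    have hbot : CfsgLib.FFLength.resIter (2 * (n + 1) + 1) (⊤ : Subgroup (G ⧸ F)) = ⊥ := by
      rw [CfsgLib.FFLength.resIter_succ]
      refine le_bot_iff.mp ((CfsgLib.FFLength.res_mono hle).trans (le_of_eq ?_))
      exact (CfsgLib.FFLength.res_eq_bot F2).mpr CfsgLib.isNilpotent_fittingSubgroup
    have hleF : CfsgLib.FFLength.resIter (2 * (n + 1) + 1) (⊤ : Subgroup G) ≤ F := by
      have h1 := CfsgLib.FFLength.resIter_map (QuotientGroup.mk' F) (⊤ : Subgroup G) (2 * (n + 1) + 1)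
      rw [Subgroup.map_top_of_surjective _ (QuotientGroup.mk'_surjective F), hbot, Subgroup.map_eq_bot_iff,
        QuotientGroup.ker_mk'] at h1
      exact h1
    rw [show 2 * (n + 1 + 1) = 2 * (n + 1) + 1 + 1 by ring, CfsgLib.FFLength.resIter_succ]
    refine le_bot_iff.mp ((CfsgLib.FFLength.res_mono hleF).trans (le_of_eq ?_))
    exact (CfsgLib.FFLength.res_eq_bot F).mpr CfsgLib.isNilpotent_fittingSubgroup

end CfsgLib.ShultGross
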